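import Groth.Agent.H05EGA4.EtDiv.Chart
import Groth.Agent.H05EGA4.EtH90.Opens
import Groth.Agent.H18Et.EtaleRestrict
import Groth.Agent.H18Et.Support
import Groth.Agent.H23Geom.DepthExt
import Groth.Prelude.Def_EtGm

/-!
# Units off a regular divisor on the étale site
-/

set_option autoImplicit false
set_option linter.style.haveILetI false
set_option linter.unusedSectionVars false
set_option backward.isDefEq.respectTransparency false
set_option backward.isDefEq.respectTransparency.types false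

universe u

open CategoryTheory CategoryTheory.Limits AlgebraicGeometry Opposite TopologicalSpace

namespace Groth.Agent.H05EGA4.EtDiv

open Groth.Agent.H05EGA4.EtH90 (res res_res res_congr res_app)
open Groth.Agent.H18Et (mem_topology_of_forall_point)
open Groth.Agent.H18Et.EtaleRestrict (emap emapAdj resPushAdj)
open Groth.Agent.H18Et.MuConst (sec sec_surjective sec_injective map_sec)
open Groth.Agent.H23Geom.DepthExt (cou cou_left)
open scoped Groth.Agent.H18Et

/-- Sections agree as soon as they agree near every point. -/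
theorem eq_of_forall_point {X : Scheme.{u}} (F : EtCoh.Ab X) {V : X.Etale} (s t : EtCoh.sect F V)
    (h : ∀ v : V.left, ∃ (V' : X.Etale) (g : V' ⟶ V) (v' : V'.left), g.left v' = v ∧ res F g s = res F g t) :
    s = t := by
  refine Presieve.IsSeparatedFor.ext (P := F.obj ⋙ CategoryTheory.forget _)
    (R := (Presheaf.equalizerSieve (F := F.obj) s t).arrows) ?_ ?_
  · refine (((isSheaf_iff_isSheaf_of_type _ _).1
      ((sheafCompose _ (CategoryTheory.forget _)).obj F).property) _ ?_).isSeparatedFor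
    refine mem_topology_of_forall_point _ fun v => ?_
    obtain ⟨V', g, v', hv, hg⟩ := h v
    exact ⟨V', g, v', hg, hv⟩
  · intro V' g hg
    exact hg

/-- An open of an object of the site, as an object. -/
noncomputable def sub {X : Scheme.{u}} (V : X.Etale) (O : V.left.Opens) : X.Etale :=
  haveI : Etale V.hom := V.prop
  Scheme.Etale.mk (O.ι ≫ V.hom)

/-- The inclusion of an open of an object. -/
noncomputable def subι {X : Scheme.{u}} (V : X.Etale) (O : V.left.Opens) : sub V O ⟶ V :=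
  MorphismProperty.Over.homMk O.ι rfl trivial

theorem subι_left {X : Scheme.{u}} (V : X.Etale) (O : V.left.Opens) : (subι V O).left = O.ι := rfl

/-- Affine neighbourhoods over a given open. -/
theorem exists_nbhd {X : Scheme.{u}} {V : X.Etale} (W : X.Opens) (v : V.left) (hv : V.hom v ∈ W) :
    ∃ (V' : X.Etale) (g : V' ⟶ V) (v' : V'.left), g.left v' = v ∧ IsAffine V'.left ∧ ∀ z, V'.hom z ∈ W := by
  obtain ⟨O, hO, hvO, hle⟩ := exists_isAffineOpen_mem_and_subset (U := V.hom ⁻¹ᵁ W) (x := v) hv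
  refine ⟨sub V O, subι V O, ⟨v, hvO⟩, rfl, hO, fun z => ?_⟩
  show (O.ι ≫ V.hom) z ∈ W
  rw [Scheme.Hom.comp_apply]
  exact hle z.2

theorem appTop_eq_iota {Y : Scheme.{u}} (O : Y.Opens) (a : Γ(Y, ⊤)) :
    O.ι.appTop a = O.topIso.inv (Y.presheaf.map (homOfLE le_top).op a) := by
  rw [Scheme.Opens.ι_appTop, Scheme.Opens.topIso_inv, ← CommRingCat.comp_apply, ← Y.presheaf.map_comp]
  rfl

/-- Associated germs are associated nearby. -/
theorem exists_unit_nbhd {Y : Scheme.{u}} (A B : Γ(Y, ⊤)) (v : Y) (e : (Y.presheaf.stalk v)ˣ)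
    (h : Y.presheaf.germ ⊤ v trivial A = e * Y.presheaf.germ ⊤ v trivial B) :
    ∃ (O : Y.Opens) (_ : v ∈ O) (ε : Γ(O.toScheme, ⊤)ˣ), O.ι.appTop A = ε * O.ι.appTop B := by
  obtain ⟨O₁, hv₁, ε₁, hε₁⟩ := Y.presheaf.exists_germ_eq (e : Y.presheaf.stalk v)
  have hv₂ : v ∈ Y.basicOpen ε₁ := (Y.mem_basicOpen ε₁ v hv₁).2 (hε₁ ▸ e.isUnit)
  obtain ⟨ε₂, hu₂, hε₂⟩ : ∃ ε₂ : Γ(Y, Y.basicOpen ε₁), IsUnit ε₂ ∧
      Y.presheaf.germ _ v hv₂ ε₂ = (e : Y.presheaf.stalk v) :=
    ⟨Y.presheaf.map (homOfLE (Y.basicOpen_le ε₁)).op ε₁, Y.toRingedSpace.isUnit_res_basicOpen ε₁,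
      (TopCat.Presheaf.germ_res_apply _ _ _ _ _).trans hε₁⟩
  have hg : Y.presheaf.germ _ v hv₂ (Y.presheaf.map (homOfLE le_top).op A) =
      Y.presheaf.germ _ v hv₂ (ε₂ * Y.presheaf.map (homOfLE (le_top : Y.basicOpen ε₁ ≤ ⊤)).op B) := by
    rw [map_mul, TopCat.Presheaf.germ_res_apply, TopCat.Presheaf.germ_res_apply, hε₂]
    exact h
  obtain ⟨O, hvO, i₁, i₂, hO⟩ := Y.presheaf.germ_eq v hv₂ hv₂ _ _ hg
  refine ⟨O, hvO, Units.map (Scheme.Opens.topIso O).inv.hom.toMonoidHom (hu₂.map (Y.presheaf.map i₁.op).hom).unit, ?_⟩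
  rw [map_mul] at hO
  rw [← CommRingCat.comp_apply, ← Y.presheaf.map_comp, ← CommRingCat.comp_apply, ← Y.presheaf.map_comp] at hO
  have hO' : Y.presheaf.map (homOfLE (le_top : O ≤ ⊤)).op A =
      Y.presheaf.map i₁.op ε₂ * Y.presheaf.map (homOfLE (le_top : O ≤ ⊤)).op B :=
    hO.trans (by obtain rfl : i₂ = i₁ := Subsingleton.elim _ _; rfl)
  rw [appTop_eq_iota, appTop_eq_iota, hO', map_mul]
  rfl

variable {X D U : Scheme.{u}} (i : D ⟶ X) (j : U ⟶ X) [IsOpenImmersion j]

/-- `j_* j^* G_m`. -/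
noncomputable abbrev P : EtCoh.Ab X := (EtCoh.push j).obj ((H18Et.EtaleRestrict.res j).obj (EtCoh.Gm X))

/-- The unit `G_m ⟶ j_* j^* G_m`. -/
noncomputable abbrev unitP : EtCoh.Gm X ⟶ P j := (resPushAdj j).unit.app (EtCoh.Gm X)

/-- A unit over the part lying over the open, as a section. -/
noncomputable def psec (V : X.Etale) (a : Γ(pullback V.hom j, ⊤)ˣ) : EtCoh.sect (P j) V :=
  sec (U := (emap j).obj ((EtCoh.bc j).obj V)) a

/-- The map on the parts lying over the open. -/
noncomputable def pmap {V V' : X.Etale} (g : V' ⟶ V) : pullback V'.hom j ⟶ pullback V.hom j :=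
  ((emap j).map ((EtCoh.bc j).map g)).left

theorem pmap_fst {V V' : X.Etale} (g : V' ⟶ V) :
    pmap j g ≫ pullback.fst V.hom j = pullback.fst V'.hom j ≫ g.left := by
  have h := congrArg (fun k => k.left) ((emapAdj j).counit.naturality g)
  rw [← cou_left j V, ← cou_left j V']
  exact h

theorem res_psec {V V' : X.Etale} (g : V' ⟶ V) (a : Γ(pullback V.hom j, ⊤)ˣ) :
    res (P j) g (psec j V a) = psec j V' (Units.map (pmap j g).appTop.hom.toMonoidHom a) := rfl

theorem psec_mul {V : X.Etale} (a b : Γ(pullback V.hom j, ⊤)ˣ) : psec j V (a * b) = psec j V a + psec j V b := rfl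

theorem psec_zpow {V : X.Etale} (a : Γ(pullback V.hom j, ⊤)ˣ) (m : ℤ) : psec j V (a ^ m) = m • psec j V a := rfl

theorem psec_surjective {V : X.Etale} (s : EtCoh.sect (P j) V) : ∃ a, psec j V a = s :=
  sec_surjective (U := (emap j).obj ((EtCoh.bc j).obj V)) s

theorem psec_injective {V : X.Etale} {a b : Γ(pullback V.hom j, ⊤)ˣ} (h : psec j V a = psec j V b) : a = b :=
  sec_injective (U := (emap j).obj ((EtCoh.bc j).obj V)) h

theorem unitP_sec (V : X.Etale) (v : Γ(V.left, ⊤)ˣ) :
    (unitP j).hom.app (op V) (sec v) = psec j V (Units.map (pullback.fst V.hom j).appTop.hom.toMonoidHom v) := by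
  have h2 : (unitP j).hom.app (op V) = (EtCoh.Gm X).obj.map (cou j V).op := by
    simp [unitP, resPushAdj]
  refine (ConcreteCategory.congr_hom h2 _).trans ((map_sec (cou j V) v).trans ?_)
  refine congrArg (sec (U := (emap j).obj ((EtCoh.bc j).obj V))) (Units.ext ?_)
  show (cou j V).left.appTop (v : Γ(V.left, ⊤)) = (pullback.fst V.hom j).appTop (v : Γ(V.left, ⊤))
  rw [cou_left]
  rfl

variable {i j}

theorem RegDiv.injective_fst [IsNoetherian X] [IsClosedImmersion i] (h : RegDiv i j) (V : X.Etale)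
    (a b : Γ(V.left, ⊤)ˣ) (hab : Units.map (pullback.fst V.hom j).appTop.hom.toMonoidHom a =
      Units.map (pullback.fst V.hom j).appTop.hom.toMonoidHom b) : sec (U := V) a = sec (U := V) b := by
  refine eq_of_forall_point _ _ _ fun v => ?_
  obtain ⟨W, t, hW, ht⟩ := h.exists_chart (V.hom v)
  obtain ⟨V', g, v', hv', hV', hgW⟩ := exists_nbhd W v hW
  refine ⟨V', g, v', hv', ?_⟩
  refine (map_sec g a).trans (Eq.trans ?_ (map_sec g b).symm)
  refine congrArg sec (Units.ext ?_)
  refine TopCat.Presheaf.section_ext V'.left.sheaf ⊤ _ _ fun z _ => ?_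
  refine (ht.good h V' hgW).germ_eq h (g.left.appTop (a : Γ(V.left, ⊤))) (g.left.appTop (b : Γ(V.left, ⊤))) ?_ z
  have key : ∀ c : Γ(V.left, ⊤), (pullback.fst V'.hom j).appTop (g.left.appTop c) =
      (pmap j g).appTop ((pullback.fst V.hom j).appTop c) := fun c => by
    exact (congrArg (fun k : pullback V'.hom j ⟶ V.left => k.appTop c) (pmap_fst j g)).symm
  rw [key, key]
  exact congrArg _ (congrArg Units.val hab)

theorem RegDiv.mono_unitP [IsNoetherian X] [IsClosedImmersion i] (h : RegDiv i j) : Mono (unitP j) := by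
  refine Sheaf.mono_of_injective _ fun V s t hst => ?_
  obtain ⟨a, rfl⟩ := sec_surjective s
  obtain ⟨b, rfl⟩ := sec_surjective t
  rw [unitP_sec, unitP_sec] at hst
  exact h.injective_fst V.unop a b (psec_injective j hst)

end Groth.Agent.H05EGA4.EtDiv
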