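import Groth.Agent.H4Depth.Regular
import Groth.Agent.H9CI.RegLocal
import Groth.Agent.H02CA.RegularKer
import Mathlib.RingTheory.KrullDimension.Regular
import Mathlib.RingTheory.Flat.FaithfullyFlat.Algebra

/-!
# Parameters of regular local rings
-/

set_option autoImplicit false
set_option linter.style.haveILetI false

universe u

open IsLocalRing

namespace Groth.Agent.H05EGA4.EtDiv

/-- An element of the maximal ideal outside its square is prime. -/
theorem prime_of_notMem_sq {R : Type u} [CommRing R] [IsRegularLocalRing R] {x : R}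
    (hx : x ∈ maximalIdeal R) (hx2 : x ∉ maximalIdeal R ^ 2) : Prime x := by
  haveI := (H9CI.quotient_step hx hx2).1
  haveI := H4Depth.isDomain_of_isRegularLocalRing (R ⧸ Ideal.span {x})
  have hx0 : x ≠ 0 := fun h => hx2 (h ▸ zero_mem _)
  exact (Ideal.span_singleton_prime hx0).1 ((Ideal.Quotient.isDomain_iff_prime _).1 inferInstance)

/-- A regular quotient of dimension one less is cut out by one parameter. -/
theorem exists_span_eq_ker {R S : Type u} [CommRing R] [IsRegularLocalRing R] [CommRing S]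
    [IsRegularLocalRing S] (π : R →+* S) (hπ : Function.Surjective π)
    (hd : ringKrullDim R = ringKrullDim S + 1) :
    ∃ x, x ∈ maximalIdeal R ∧ x ∉ maximalIdeal R ^ 2 ∧ RingHom.ker π = Ideal.span {x} := by
  haveI : IsRegularLocalRing (R ⧸ RingHom.ker π) :=
    IsRegularLocalRing.of_ringEquiv (RingHom.quotientKerEquivOfSurjective hπ).symm
  have hdim : ringKrullDim (R ⧸ RingHom.ker π) = ringKrullDim S :=
    ringKrullDim_eq_of_ringEquiv (RingHom.quotientKerEquivOfSurjective hπ)
  obtain ⟨x, hxK, hx2⟩ : ∃ x ∈ RingHom.ker π, x ∉ maximalIdeal R ^ 2 := by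
    by_contra hall
    push Not at hall
    have hbot : RingHom.ker π = ⊥ := by
      refine le_bot_iff.mp (Submodule.le_of_le_smul_of_le_jacobson_bot (I := maximalIdeal R)
        (IsNoetherian.noetherian _) (maximalIdeal_le_jacobson _) ?_)
      rw [bot_sup_eq, smul_eq_mul, mul_comm]
      exact fun z hz => H02CA.inf_sq_le_mul_of_isRegularLocalRing _ ⟨hz, hall z hz⟩
    have he := ringKrullDim_eq_of_ringEquiv (RingEquiv.ofBijective π ⟨(RingHom.injective_iff_ker_eq_bot π).2 hbot, hπ⟩)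
    obtain ⟨d, hd'⟩ := H9CI.exists_nat_dim S
    rw [he, hd'] at hd
    exact absurd hd (by norm_cast; omega)
  have hxm : x ∈ maximalIdeal R := le_maximalIdeal (RingHom.ker_ne_top π) hxK
  obtain ⟨hreg, hstep, -⟩ := H9CI.quotient_step hxm hx2
  haveI := hreg
  haveI := H4Depth.isDomain_of_isRegularLocalRing (R ⧸ Ideal.span {x})
  refine ⟨x, hxm, hx2, le_antisymm (fun z hz => ?_) ((Ideal.span_singleton_le_iff_mem _).2 hxK)⟩
  by_contra hzx
  have hr : Ideal.Quotient.mk (Ideal.span {x}) z ∈ nonZeroDivisors (R ⧸ Ideal.span {x}) :=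
    mem_nonZeroDivisors_of_ne_zero fun h => hzx (Ideal.Quotient.eq_zero_iff_mem.1 h)
  let π' : R ⧸ Ideal.span {x} →+* S := Ideal.Quotient.lift _ π fun w hw => by
    obtain ⟨c, rfl⟩ := Ideal.mem_span_singleton'.mp hw
    rw [map_mul, RingHom.mem_ker.mp hxK, mul_zero]
  let π'' : (R ⧸ Ideal.span {x}) ⧸ Ideal.span {Ideal.Quotient.mk (Ideal.span {x}) z} →+* S :=
    Ideal.Quotient.lift _ π' fun w hw => by
      obtain ⟨c, rfl⟩ := Ideal.mem_span_singleton'.mp hw
      rw [map_mul, show π' (Ideal.Quotient.mk _ z) = π z from rfl, RingHom.mem_ker.mp hz, mul_zero]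
  have h1 : ringKrullDim S ≤ ringKrullDim ((R ⧸ Ideal.span {x}) ⧸ Ideal.span {Ideal.Quotient.mk (Ideal.span {x}) z}) :=
    ringKrullDim_le_of_surjective π''
      (Ideal.Quotient.lift_surjective_of_surjective _ _ (Ideal.Quotient.lift_surjective_of_surjective _ _ hπ))
  have h2 := ringKrullDim_quotient_succ_le_of_nonZeroDivisor hr
  have h3 : ringKrullDim S + 1 ≤ ringKrullDim (R ⧸ Ideal.span {x}) := (add_le_add_left h1 1).trans h2
  obtain ⟨d, hd'⟩ := H9CI.exists_nat_dim S
  obtain ⟨e, he⟩ := H9CI.exists_nat_dim (R ⧸ Ideal.span {x})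
  rw [hd, hd', he] at hstep
  rw [hd', he] at h3
  norm_cast at hstep h3
  omega

/-- Unramified flat local maps keep parameters outside the square. -/
theorem notMem_sq_map {R S : Type u} [CommRing R] [IsLocalRing R] [CommRing S] [IsLocalRing S]
    (f : R →+* S) [IsLocalHom f] (hflat : f.Flat) (hm : (maximalIdeal R).map f = maximalIdeal S) {x : R}
    (hx2 : x ∉ maximalIdeal R ^ 2) : f x ∉ maximalIdeal S ^ 2 := by
  algebraize [f]
  haveI : Module.FaithfullyFlat R S := by
    haveI : Module.Flat R S := hflat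
    haveI : IsLocalHom (algebraMap R S) := ‹IsLocalHom f›
    exact Module.FaithfullyFlat.of_flat_of_isLocalHom
  intro h
  rw [← hm, ← Ideal.map_pow] at h
  exact hx2 ((Ideal.comap_map_eq_self_of_faithfullyFlat (B := S) (maximalIdeal R ^ 2)).le h)

/-- Factors of a power of a prime or a unit. -/
theorem exists_associated_pow {R : Type*} [CommRing R] [IsDomain R] {a b t : R} (ht : Prime t ∨ IsUnit t)
    {N : ℕ} (h : a * b = t ^ N) : ∃ (i : ℕ) (e : Rˣ), a = e * t ^ i := by
  rcases ht with ht | ht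
  · obtain ⟨i, -, hi⟩ := (dvd_prime_pow ht N).1 ⟨b, h.symm⟩
    obtain ⟨e, he⟩ := hi.symm
    exact ⟨i, e, by rw [mul_comm, he]⟩
  · have ha : IsUnit a := isUnit_of_mul_isUnit_left (h ▸ ht.pow N)
    exact ⟨0, ha.unit, by simp⟩

theorem ne_zero_of_prime_or_isUnit {R : Type*} [CommRing R] [Nontrivial R] {t : R}
    (ht : Prime t ∨ IsUnit t) : t ≠ 0 :=
  ht.elim (fun h => h.ne_zero) fun h => h.ne_zero

/-- Locally at a prime, an ideal with principal localization is principal. -/
theorem exists_spread {R : Type*} [CommRing R] (S : Type*) [CommRing S] [Algebra R S] (p : Ideal R)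
    [p.IsPrime] [IsLocalization.AtPrime S p] (I : Ideal R) (hI : I.FG) (x : S)
    (h : I.map (algebraMap R S) = Ideal.span {x}) :
    ∃ t ∈ I, ∃ g ∉ p, ∀ a ∈ I, ∃ c, g * a = c * t := by
  classical
  have hx : x ∈ I.map (algebraMap R S) := h ▸ Ideal.mem_span_singleton_self x
  obtain ⟨⟨t, s⟩, hts⟩ := (IsLocalization.mem_map_algebraMap_iff p.primeCompl S).1 hx
  have hspan : ∀ a ∈ I, ∃ g ∉ p, ∃ c, g * a = c * (t : R) := by
    intro a ha
    obtain ⟨d, hd⟩ := Ideal.mem_span_singleton'.1 (h ▸ Ideal.mem_map_of_mem (algebraMap R S) ha)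
    obtain ⟨⟨c, r⟩, hc⟩ := IsLocalization.surj p.primeCompl d
    have : algebraMap R S (a * r * s) = algebraMap R S (c * t) := by
      simp only [map_mul]
      rw [← hd, ← hts]
      linear_combination x * algebraMap R S s * hc
    obtain ⟨m, hm⟩ := (IsLocalization.eq_iff_exists p.primeCompl S).1 this
    refine ⟨m * (r * s), (p.primeCompl.mul_mem m.2 (p.primeCompl.mul_mem r.2 s.2)), m * c, ?_⟩
    linear_combination hm
  obtain ⟨F, hF⟩ := hI
  choose! g hg c hc using fun a (ha : a ∈ (F : Set R)) => hspan a (hF ▸ Ideal.subset_span ha)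
  refine ⟨t, t.2, ∏ a ∈ F, g a, fun hp => ?_, fun a ha => ?_⟩
  · obtain ⟨a, ha, hga⟩ := Ideal.IsPrime.prod_mem_iff.1 hp
    exact hg a ha hga
  · suffices ha' : a ∈ Submodule.comap (LinearMap.mulLeft R (∏ a ∈ F, g a)) (Ideal.span {(t : R)}) by
      obtain ⟨c, hc⟩ := Ideal.mem_span_singleton'.1 ha'
      exact ⟨c, hc.symm⟩
    rw [← hF] at ha
    refine Submodule.span_le.2 ?_ ha
    intro b hb
    show (∏ a ∈ F, g a) * b ∈ Ideal.span {(t : R)}
    obtain ⟨k, hk⟩ := Finset.dvd_prod_of_mem g hb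
    rw [hk]
    refine Ideal.mem_span_singleton'.2 ⟨k * c b, ?_⟩
    rw [mul_assoc, ← hc b hb]; ring

end Groth.Agent.H05EGA4.EtDiv
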