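import Groth.Agent.H05EGA4.EtDiv.Alg
import Groth.Agent.H17.KerStalk
import Groth.Agent.S4991
import Groth.Prelude.Def_EtOpen
import Mathlib.AlgebraicGeometry.Morphisms.FormallyUnramified
import Mathlib.AlgebraicGeometry.Morphisms.Flat
import Mathlib.AlgebraicGeometry.Morphisms.Etale
import Mathlib.AlgebraicGeometry.PullbackCarrier

/-!
# Local equations of a regular divisor on étale neighbourhoods
-/

set_option autoImplicit false
set_option linter.style.haveILetI false
set_option linter.unusedSectionVars false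
set_option backward.isDefEq.respectTransparency false
set_option backward.isDefEq.respectTransparency.types false

universe u

open CategoryTheory CategoryTheory.Limits AlgebraicGeometry Opposite TopologicalSpace IsLocalRing

namespace Groth.Agent.H05EGA4.EtDiv

variable {X D U : Scheme.{u}} (i : D ⟶ X) (j : U ⟶ X)

/-- A regular divisor of a regular scheme, with its open complement. -/
structure RegDiv : Prop where
  xreg : ∀ x : X, IsRegularLocalRing (X.presheaf.stalk x)
  dreg : ∀ y : D, IsRegularLocalRing (D.presheaf.stalk y)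
  codim : ∀ y : D, ringKrullDim (X.presheaf.stalk (i.base y)) = ringKrullDim (D.presheaf.stalk y) + 1
  compl : Set.range j = (Set.range i)ᶜ

/-- `t` is an equation of the divisor on `W`. -/
def IsChart (W : X.Opens) (t : Γ(X, W)) : Prop :=
  (∀ x (hx : x ∈ W), x ∈ Set.range j → IsUnit (X.presheaf.germ W x hx t)) ∧
    ∀ y (hy : i.base y ∈ W), RingHom.ker (i.stalkMap y).hom = Ideal.span {X.presheaf.germ W (i.base y) hy t}

/-- `T` is an equation of the preimage of the divisor on an object of the site. -/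
def Good (V : X.Etale) (T : Γ(V.left, ⊤)) : Prop :=
  ∀ v, (V.hom v ∈ Set.range j ∧ IsUnit (V.left.presheaf.germ ⊤ v trivial T)) ∨
    (V.hom v ∉ Set.range j ∧ Prime (V.left.presheaf.germ ⊤ v trivial T))

variable {i j}

theorem RegDiv.exists_chart [IsNoetherian X] [IsClosedImmersion i] [IsOpenImmersion j]
    (h : RegDiv i j) (x : X) : ∃ (W : X.Opens) (t : Γ(X, W)), x ∈ W ∧ IsChart i j W t := by
  classical
  by_cases hx : x ∈ Set.range i
  swap
  · refine ⟨j.opensRange, 1, by show x ∈ Set.range j; rw [h.compl]; exact hx, fun z hz _ => ?_, fun y hy => ?_⟩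
    · rw [map_one]; exact isUnit_one
    · exact absurd (⟨y, rfl⟩ : i.base y ∈ Set.range i) ((h.compl.le (show i.base y ∈ Set.range j from hy)))
  obtain ⟨y₀, rfl⟩ := hx
  obtain ⟨W₀, hW₀, hxW₀, -⟩ := exists_isAffineOpen_mem_and_subset (U := (⊤ : X.Opens)) (x := i y₀) trivial
  haveI := h.xreg (i y₀)
  haveI := h.dreg y₀
  obtain ⟨π, -, -, hker⟩ := exists_span_eq_ker (i.stalkMap y₀).hom (i.stalkMap_surjective y₀) (h.codim y₀)
  haveI : IsNoetherianRing Γ(X, W₀) := IsLocallyNoetherian.component_noetherian ⟨W₀, hW₀⟩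
  let p := (hW₀.primeIdealOf ⟨i y₀, hxW₀⟩).asIdeal
  letI := TopCat.Presheaf.algebra_section_stalk X.presheaf (⟨i y₀, hxW₀⟩ : W₀)
  haveI := hW₀.isLocalization_stalk ⟨i y₀, hxW₀⟩
  obtain ⟨t, ht, g, hg, hgt⟩ := exists_spread (X.presheaf.stalk (i y₀)) p (RingHom.ker (i.app W₀).hom)
    (IsNoetherian.noetherian _) π ((H17.ker_stalkMap_eq_map i hW₀ y₀ hxW₀).symm.trans hker)
  have hW : X.basicOpen g ≤ W₀ := X.basicOpen_le g
  have hmap : ∀ z (hz : z ∈ X.basicOpen g), (RingHom.ker (i.app W₀).hom).map (X.presheaf.germ W₀ z (hW hz)).hom =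
      Ideal.span {X.presheaf.germ W₀ z (hW hz) t} := by
    intro z hz
    refine le_antisymm (Ideal.map_le_iff_le_comap.2 fun a ha => ?_)
      ((Ideal.span_singleton_le_iff_mem _).2 (Ideal.mem_map_of_mem _ ht))
    obtain ⟨c, hc⟩ := hgt a ha
    rw [Ideal.mem_comap]
    refine (Ideal.unit_mul_mem_iff_mem _ ((X.mem_basicOpen g z (hW hz)).1 hz)).1 ?_
    show X.presheaf.germ W₀ z (hW hz) g * X.presheaf.germ W₀ z (hW hz) a ∈ _
    rw [← map_mul, hc, map_mul]
    exact Ideal.mul_mem_left _ _ (Ideal.mem_span_singleton_self _)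
  refine ⟨X.basicOpen g, X.presheaf.map (homOfLE hW).op t, ?_, fun z hz hzU => ?_, fun y hy => ?_⟩
  · refine (X.mem_basicOpen g (i y₀) hxW₀).2 ?_
    exact IsLocalization.map_units (X.presheaf.stalk (i y₀)) (⟨g, hg⟩ : p.primeCompl)
  · rw [TopCat.Presheaf.germ_res_apply]
    obtain ⟨f, hfO, hzf⟩ := hW₀.exists_basicOpen_le (V := j.opensRange) ⟨z, hzU⟩ (hW hz)
    haveI : CompactSpace D := QuasiCompact.compactSpace_of_compactSpace i
    have hcomp : IsCompact ((i ⁻¹ᵁ W₀ : D.Opens) : Set D) :=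
      (QuasiCompact.isCompact_preimage _ W₀.2 hW₀.isCompact)
    have hnil : IsNilpotent (i.app W₀ f) := by
      rw [Scheme.isNilpotent_iff_basicOpen_eq_bot_of_isCompact hcomp, ← Scheme.preimage_basicOpen, eq_bot_iff]
      intro y hy
      exact absurd (⟨y, rfl⟩ : i y ∈ Set.range i) (h.compl.le (show i y ∈ Set.range j from hfO hy))
    obtain ⟨n, hn⟩ := hnil
    have hfn : f ^ n ∈ RingHom.ker (i.app W₀).hom := by rw [RingHom.mem_ker, map_pow]; exact hn
    have htop : (RingHom.ker (i.app W₀).hom).map (X.presheaf.germ W₀ z (hW hz)).hom = ⊤ :=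
      Ideal.eq_top_of_isUnit_mem _ (Ideal.mem_map_of_mem _ hfn)
        (by rw [map_pow]; exact ((X.mem_basicOpen f z (hW hz)).1 hzf).pow n)
    rw [hmap z hz, Ideal.span_singleton_eq_top] at htop
    exact htop
  · rw [TopCat.Presheaf.germ_res_apply, H17.ker_stalkMap_eq_map i hW₀ y (hW hy)]
    exact hmap _ hy

variable [IsNoetherian X]

theorem RegDiv.isDomain_stalk (h : RegDiv i j) (V : X.Etale) (v : V.left) :
    IsRegularLocalRing (V.left.presheaf.stalk v) := by
  haveI : Etale V.hom := V.prop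
  haveI := h.xreg (V.hom v)
  haveI : IsLocallyNoetherian ((Functor.fromPUnit X).obj V.right) := inferInstanceAs (IsLocallyNoetherian X)
  exact (S4991.result V.hom v ⟨⊤, trivial, inferInstance⟩).2 (h.xreg _)

/-- The pull back of an equation to an object over the chart. -/
noncomputable def pullT (W : X.Opens) (t : Γ(X, W)) (V : X.Etale) (hV : ∀ v, V.hom v ∈ W) : Γ(V.left, ⊤) :=
  V.hom.appLE W ⊤ (fun v _ => hV v) t

omit [AlgebraicGeometry.IsNoetherian X] in
theorem germ_appLE {Y : Scheme.{u}} (f : Y ⟶ X) (W : X.Opens) (t : Γ(X, W)) (e : ⊤ ≤ f ⁻¹ᵁ W) (v : Y)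
    (hv : f v ∈ W) :
    Y.presheaf.germ ⊤ v trivial (f.appLE W ⊤ e t) = f.stalkMap v (X.presheaf.germ W (f v) hv t) := by
  rw [Scheme.Hom.germ_stalkMap_apply, Scheme.Hom.appLE]
  erw [CommRingCat.comp_apply]
  exact TopCat.Presheaf.germ_res_apply _ _ _ _ _

omit [AlgebraicGeometry.IsNoetherian X] in
theorem notMem_sq_stalkMap {Y : Scheme.{u}} (f : Y ⟶ X) [Etale f] (v : Y) {x : X.presheaf.stalk (f v)}
    (hx : x ∉ maximalIdeal (X.presheaf.stalk (f v)) ^ 2) :
    f.stalkMap v x ∉ maximalIdeal (Y.presheaf.stalk v) ^ 2 := by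
  refine notMem_sq_map (f.stalkMap v).hom (Flat.stalkMap f v) ?_ hx
  algebraize [(f.stalkMap v).hom]
  haveI : IsLocalHom (algebraMap (X.presheaf.stalk (f v)) (Y.presheaf.stalk v)) :=
    inferInstanceAs <| IsLocalHom (f.stalkMap v).hom
  haveI : Algebra.EssFiniteType (X.presheaf.stalk (f v)) (Y.presheaf.stalk v) := by
    rw [← RingHom.essFiniteType_algebraMap, RingHom.algebraMap_toAlgebra]
    exact LocallyOfFiniteType.stalkMap f v
  haveI : Algebra.FormallyUnramified (X.presheaf.stalk (f v)) (Y.presheaf.stalk v) := by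
    rw [← RingHom.formallyUnramified_algebraMap, RingHom.algebraMap_toAlgebra]
    exact FormallyUnramified.stalkMap f v
  exact Algebra.FormallyUnramified.map_maximalIdeal

theorem germ_pullT (W : X.Opens) (t : Γ(X, W)) (V : X.Etale) (hV : ∀ v, V.hom v ∈ W) (v : V.left) :
    V.left.presheaf.germ ⊤ v trivial (pullT W t V hV) = V.hom.stalkMap v (X.presheaf.germ W (V.hom v) (hV v) t) := by
  exact germ_appLE V.hom W t _ v (hV v)

theorem pullT_res (W : X.Opens) (t : Γ(X, W)) {V V' : X.Etale} (g : V' ⟶ V) (hV : ∀ v, V.hom v ∈ W)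
    (hV' : ∀ v, V'.hom v ∈ W) : g.left.appTop (pullT W t V hV) = pullT W t V' hV' := by
  have e : g.left ≫ V.hom = V'.hom := Over.w g.hom
  refine (CommRingCat.comp_apply _ _ _).symm.trans ?_
  show (V.hom.appLE W ⊤ (fun v _ => hV v) ≫ g.left.app ⊤) t = V'.hom.appLE W ⊤ (fun v _ => hV' v) t
  congr 2
  rw [Scheme.Hom.app_eq_appLE, Scheme.Hom.appLE_comp_appLE]
  congr 1

theorem IsChart.good [IsClosedImmersion i] [IsOpenImmersion j] (h : RegDiv i j) {W : X.Opens} {t : Γ(X, W)}
    (ht : IsChart i j W t) (V : X.Etale) (hV : ∀ v, V.hom v ∈ W) : Good j V (pullT W t V hV) := by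
  intro v
  rw [germ_pullT]
  by_cases hv : V.hom v ∈ Set.range j
  · exact Or.inl ⟨hv, (ht.1 _ (hV v) hv).map (V.hom.stalkMap v).hom⟩
  refine Or.inr ⟨hv, ?_⟩
  obtain ⟨y, hy⟩ : V.hom v ∈ Set.range i := by
    by_contra hn
    exact hv (h.compl.ge hn)
  haveI : Etale V.hom := V.prop
  haveI := h.isDomain_stalk V v
  haveI := h.xreg (V.hom v)
  have key : X.presheaf.germ W (V.hom v) (hV v) t ∈ maximalIdeal _ ∧
      X.presheaf.germ W (V.hom v) (hV v) t ∉ maximalIdeal _ ^ 2 := by
    have main : ∀ (z : X) (hz : z ∈ W), i.base y = z →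
        X.presheaf.germ W z hz t ∈ maximalIdeal (X.presheaf.stalk z) ∧
          X.presheaf.germ W z hz t ∉ maximalIdeal (X.presheaf.stalk z) ^ 2 := by
      rintro z hz rfl
      haveI := h.xreg (i.base y)
      haveI := h.dreg y
      obtain ⟨π, hπm, hπ2, hker⟩ := exists_span_eq_ker (i.stalkMap y).hom (i.stalkMap_surjective y) (h.codim y)
      rw [ht.2 y hz] at hker
      obtain ⟨a, ha⟩ := Ideal.mem_span_singleton'.1 (hker.le (Ideal.mem_span_singleton_self _))
      obtain ⟨b, hb⟩ := Ideal.mem_span_singleton'.1 (hker.ge (Ideal.mem_span_singleton_self π))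
      exact ⟨ha ▸ Ideal.mul_mem_left _ _ hπm, fun h2 => hπ2 (hb ▸ Ideal.mul_mem_left _ _ h2)⟩
    exact main _ _ hy
  refine prime_of_notMem_sq ?_ ?_
  · exact fun hu => key.1 (isUnit_of_map_unit (V.hom.stalkMap v).hom _ hu)
  · exact notMem_sq_stalkMap V.hom v key.2

variable [IsOpenImmersion j]

theorem Good.range_fst {V : X.Etale} {T : Γ(V.left, ⊤)} (hT : Good j V T) :
    (pullback.fst V.hom j).opensRange = V.left.basicOpen T := by
  apply Opens.ext
  show Set.range (pullback.fst V.hom j).base = _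
  rw [Scheme.Pullback.range_fst]
  ext v
  show V.hom v ∈ Set.range j ↔ v ∈ V.left.basicOpen T
  rw [V.left.mem_basicOpen T v trivial]
  rcases hT v with ⟨h1, h2⟩ | ⟨h1, h2⟩
  · exact iff_of_true h1 h2
  · exact iff_of_false h1 h2.not_isUnit

/-- The equation is a unit off the divisor. -/
theorem Good.isUnit_fst {V : X.Etale} {T : Γ(V.left, ⊤)} (hT : Good j V T) :
    IsUnit ((pullback.fst V.hom j).appTop T) := by
  refine (pullback V.hom j).toRingedSpace.isUnit_of_isUnit_germ ⊤ _ fun p _ => ?_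
  refine ((pullback V.hom j).mem_basicOpen (U := ⊤) _ p trivial).1 ?_
  rw [← Scheme.preimage_basicOpen_top]
  show (pullback.fst V.hom j) p ∈ V.left.basicOpen T
  rw [← hT.range_fst]
  exact ⟨p, rfl⟩

theorem Good.bijective_appLE {V : X.Etale} {T : Γ(V.left, ⊤)} (hT : Good j V T) :
    ∃ ρ : Γ(V.left, V.left.basicOpen T) ⟶ Γ(pullback V.hom j, ⊤), Function.Bijective ρ ∧
      ∀ A, ρ (V.left.presheaf.map (homOfLE (V.left.basicOpen_le T)).op A) = (pullback.fst V.hom j).appTop A := by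
  have e : (⊤ : (pullback V.hom j).Opens) = pullback.fst V.hom j ⁻¹ᵁ V.left.basicOpen T := by
    rw [← hT.range_fst]
    exact (Scheme.Hom.preimage_opensRange _).symm
  refine ⟨(pullback.fst V.hom j).appLE _ ⊤ e.le, ?_, fun A => ?_⟩
  · haveI := (pullback.fst V.hom j).isIso_app (V.left.basicOpen T) hT.range_fst.ge
    haveI : IsIso ((pullback.fst V.hom j).appLE (V.left.basicOpen T) ⊤ e.le) := by
      rw [Scheme.Hom.appLE]
      haveI : IsIso (homOfLE e.le) := ⟨homOfLE e.ge, Subsingleton.elim _ _, Subsingleton.elim _ _⟩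
      infer_instance
    exact ConcreteCategory.bijective_of_isIso _
  · rw [← CommRingCat.comp_apply, Scheme.Hom.map_appLE]
    rw [show Scheme.Hom.appTop (pullback.fst V.hom j) = (pullback.fst V.hom j).app ⊤ from rfl,
      Scheme.Hom.app_eq_appLE]
    rfl

theorem Good.germ_eq {V : X.Etale} [IsAffine V.left] {T : Γ(V.left, ⊤)} (hT : Good j V T) (h : RegDiv i j)
    (A B : Γ(V.left, ⊤)) (hAB : (pullback.fst V.hom j).appTop A = (pullback.fst V.hom j).appTop B) (v : V.left) :
    V.left.presheaf.germ ⊤ v trivial A = V.left.presheaf.germ ⊤ v trivial B := by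
  haveI := h.isDomain_stalk V v
  haveI := H4Depth.isDomain_of_isRegularLocalRing (V.left.presheaf.stalk v)
  obtain ⟨ρ, hρ, hρA⟩ := hT.bijective_appLE
  haveI := (isAffineOpen_top V.left).isLocalization_basicOpen T
  have hres : algebraMap Γ(V.left, ⊤) Γ(V.left, V.left.basicOpen T) A =
      algebraMap Γ(V.left, ⊤) Γ(V.left, V.left.basicOpen T) B :=
    hρ.1 ((hρA A).trans (hAB.trans (hρA B).symm))
  obtain ⟨⟨_, M, rfl⟩, hM⟩ := (IsLocalization.eq_iff_exists (Submonoid.powers T) _).1 hres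
  have hM' := congrArg (V.left.presheaf.germ ⊤ v trivial) hM
  rw [map_mul, map_mul, map_pow] at hM'
  exact mul_left_cancel₀ (pow_ne_zero _ (ne_zero_of_prime_or_isUnit
    ((hT v).elim (fun h => Or.inr h.2) fun h => Or.inl h.2))) hM'

theorem Good.exists_frac {V : X.Etale} [IsAffine V.left] {T : Γ(V.left, ⊤)} (hT : Good j V T)
    (a : Γ(pullback V.hom j, ⊤)) :
    ∃ (A : Γ(V.left, ⊤)) (k : ℕ), (pullback.fst V.hom j).appTop A = a * (pullback.fst V.hom j).appTop T ^ k := by
  obtain ⟨ρ, hρ, hρA⟩ := hT.bijective_appLE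
  haveI := (isAffineOpen_top V.left).isLocalization_basicOpen T
  obtain ⟨b, rfl⟩ := hρ.2 a
  obtain ⟨⟨A, ⟨_, k, rfl⟩⟩, hA⟩ := IsLocalization.surj (Submonoid.powers T) b
  refine ⟨A, k, ?_⟩
  have hA' := congrArg ρ hA
  erw [map_mul, hρA, hρA, map_pow] at hA'
  exact hA'.symm

end Groth.Agent.H05EGA4.EtDiv
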