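import Groth.Agent.H05EGA4.EtDiv.Units
import Groth.Agent.H18Et.PushExact
import Groth.Agent.H18Et.IntegralLift
import Groth.Agent.H18Et.ConstHom
import Groth.Agent.H05EGA4.EtH90.Class

/-!
# The cokernel of `G_m ⟶ j_* j^* G_m` for a regular divisor
-/

set_option autoImplicit false
set_option linter.style.haveILetI false
set_option linter.unusedSectionVars false
set_option backward.isDefEq.respectTransparency false
set_option backward.isDefEq.respectTransparency.types false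

universe u

open CategoryTheory CategoryTheory.Limits AlgebraicGeometry Opposite TopologicalSpace

namespace Groth.Agent.H05EGA4.EtDiv

open Groth.Agent.H05EGA4.EtH90 (res res_res res_congr res_app)
open Groth.Agent.H18Et.MuConst (sec sec_surjective sec_injective map_sec)
open Groth.Agent.H18Et.Subterminal (ofOpen)
open Groth.Agent.H18Et (germ germ_surjective germ_eq_iff germ_naturality exists_fiber_lift ptOf geomPt geomPt_base exists_fiber_over)
open scoped Groth.Agent.H18Et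

variable {X D U : Scheme.{u}} {i : D ⟶ X} {j : U ⟶ X} [IsOpenImmersion j] [IsNoetherian X] [IsClosedImmersion i]

variable (j) in
/-- The divisor classes. -/
noncomputable abbrev Cl : EtCoh.Ab X := cokernel (unitP j)

/-- The class of an equation. -/
noncomputable def cl (V : X.Etale) {T : Γ(V.left, ⊤)} (hT : Good j V T) : EtCoh.sect (Cl j) V :=
  (cokernel.π (unitP j)).hom.app (op V) (psec j V hT.isUnit_fst.unit)

theorem res_cl {V V' : X.Etale} (g : V' ⟶ V) {T : Γ(V.left, ⊤)} {T' : Γ(V'.left, ⊤)} (hT : Good j V T)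
    (hT' : Good j V' T') (e : g.left.appTop T = T') : res (Cl j) g (cl V hT) = cl V' hT' := by
  refine (res_app (cokernel.π (unitP j)) g (psec j V hT.isUnit_fst.unit)).symm.trans ?_
  rw [res_psec]
  refine congrArg _ (congrArg (psec j V') (Units.ext ?_))
  show (pmap j g).appTop ((pullback.fst V.hom j).appTop T) = (pullback.fst V'.hom j).appTop T'
  rw [← e]
  exact congrArg (fun k : pullback V'.hom j ⟶ V.left => k.appTop T) (pmap_fst j g)

theorem π_unitP (V : X.Etale) (s : EtCoh.sect (EtCoh.Gm X) V) :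
    (cokernel.π (unitP j)).hom.app (op V) ((unitP j).hom.app (op V) s) = 0 :=
  ConcreteCategory.congr_hom (congrArg (fun k => k.hom.app (op V)) (cokernel.condition (unitP j))) s

/-- Equations differing by a unit have the same class. -/
theorem cl_eq_of_unit {V : X.Etale} {T T' : Γ(V.left, ⊤)} (hT : Good j V T) (hT' : Good j V T')
    (ε : Γ(V.left, ⊤)ˣ) (e : T' = ε * T) : cl V hT' = cl V hT := by
  have : hT'.isUnit_fst.unit = Units.map (pullback.fst V.hom j).appTop.hom.toMonoidHom ε * hT.isUnit_fst.unit :=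
    Units.ext (by
      show (pullback.fst V.hom j).appTop T' = (pullback.fst V.hom j).appTop (ε : Γ(V.left, ⊤)) * _
      rw [e, map_mul]; rfl)
  rw [cl, this, psec_mul, map_add, ← unitP_sec, π_unitP, zero_add]
  rfl

theorem pullT_sub {W : X.Opens} (t : Γ(X, W)) (V : X.Etale) (O : V.left.Opens) (hV : ∀ v, V.hom v ∈ W)
    (hO : ∀ v, (sub V O).hom v ∈ W) : O.ι.appTop (pullT W t V hV) = pullT W t (sub V O) hO :=
  pullT_res W t (subι V O) hV hO

theorem mem_of_hom {W : X.Opens} {V V' : X.Etale} (g : V' ⟶ V) (hV : ∀ v, V.hom v ∈ W) (v : V'.left) :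
    V'.hom v ∈ W := by
  rw [show V'.hom = g.left ≫ V.hom from (Over.w g.hom).symm, Scheme.Hom.comp_apply]
  exact hV _

/-- The class of an equation does not depend on the chart. -/
theorem cl_indep (h : RegDiv i j) {W W' : X.Opens} {t : Γ(X, W)} {t' : Γ(X, W')} (ht : IsChart i j W t)
    (ht' : IsChart i j W' t') (V : X.Etale) (hV : ∀ v, V.hom v ∈ W) (hV' : ∀ v, V.hom v ∈ W') :
    cl V (ht'.good h V hV') = cl V (ht.good h V hV) := by
  refine eq_of_forall_point _ _ _ fun v => ?_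
  obtain ⟨e, he⟩ : ∃ e : (V.left.presheaf.stalk v)ˣ,
      V.left.presheaf.germ ⊤ v trivial (pullT W' t' V hV') = e * V.left.presheaf.germ ⊤ v trivial (pullT W t V hV) := by
    rw [germ_pullT, germ_pullT]
    suffices hs : ∀ (x : X) (hx : x ∈ W) (hx' : x ∈ W'), Associated (X.presheaf.germ W x hx t)
        (X.presheaf.germ W' x hx' t') by
      obtain ⟨e, he⟩ := hs _ (hV v) (hV' v)
      refine ⟨Units.map (V.hom.stalkMap v).hom.toMonoidHom e, ?_⟩
      rw [← he, map_mul, mul_comm]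
      rfl
    intro x hx hx'
    haveI := h.xreg x
    haveI := H4Depth.isDomain_of_isRegularLocalRing (X.presheaf.stalk x)
    by_cases hxU : x ∈ Set.range j
    · exact (associated_one_iff_isUnit.2 (ht.1 x hx hxU)).trans
        (associated_one_iff_isUnit.2 (ht'.1 x hx' hxU)).symm
    · obtain ⟨y, rfl⟩ : x ∈ Set.range i := by
        by_contra hn
        exact hxU (h.compl.ge hn)
      exact Ideal.span_singleton_eq_span_singleton.1 ((ht.2 y hx).symm.trans (ht'.2 y hx'))
  obtain ⟨O, hvO, ε, hε⟩ := exists_unit_nbhd _ _ v e he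
  refine ⟨sub V O, subι V O, ⟨v, hvO⟩, rfl, ?_⟩
  rw [res_cl (subι V O) (ht'.good h V hV') (ht'.good h _ (mem_of_hom (subι V O) hV')) (pullT_sub t' V O hV' _),
    res_cl (subι V O) (ht.good h V hV) (ht.good h _ (mem_of_hom (subι V O) hV)) (pullT_sub t V O hV _)]
  refine cl_eq_of_unit _ _ ε ?_
  rw [← pullT_sub t' V O hV', ← pullT_sub t V O hV]
  exact hε

theorem ofOpen_hom_mem (W : X.Opens) : ∀ v, (ofOpen W).hom v ∈ W := fun v => v.2

/-- The class of the divisor, characterised on all charts. -/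
theorem exists_divClass (h : RegDiv i j) : ∃ σ : EtCoh.sect (Cl j) (EtCoh.top X),
    ∀ (W : X.Opens) (t : Γ(X, W)) (ht : IsChart i j W t) (V : X.Etale) (hV : ∀ v, V.hom v ∈ W),
      res (Cl j) ((EtCore.topIsTerminal X).from V) σ = cl V (ht.good h V hV) := by
  choose W t hxW ht using h.exists_chart
  obtain ⟨σ₀, hσ₀⟩ := EtH90.exists_glue (Cl j) W (W := ⊤) (fun a => le_top) (fun x _ => ⟨x, hxW x⟩)
    (fun a => cl (ofOpen (W a)) ((ht a).good h _ (ofOpen_hom_mem _))) fun a b => by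
      have hV : ∀ v, (ofOpen (W a ⊓ W b)).hom v ∈ W a := fun v => v.2.1
      have hV' : ∀ v, (ofOpen (W a ⊓ W b)).hom v ∈ W b := fun v => v.2.2
      refine (res_cl _ _ ((ht a).good h _ hV) (pullT_res _ _ _ _ _)).trans ?_
      refine Eq.trans ?_ (res_cl _ _ ((ht b).good h _ hV') (pullT_res _ _ _ _ _)).symm
      exact (cl_indep h (ht a) (ht b) _ hV hV').symm
  let τ : EtCoh.top X ⟶ ofOpen (⊤ : X.Opens) :=
    MorphismProperty.Over.homMk X.topIso.inv (by
      show X.topIso.inv ≫ (⊤ : X.Opens).ι = 𝟙 X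
      rw [← Scheme.topIso_hom, Iso.inv_hom_id]) trivial
  refine ⟨res (Cl j) τ σ₀, fun W' t' ht' V hV => ?_⟩
  refine eq_of_forall_point _ _ _ fun v => ?_
  obtain ⟨V', g, v', hv', -, hg⟩ := exists_nbhd (W (V.hom v)) v (hxW _)
  refine ⟨V', g, v', hv', ?_⟩
  obtain ⟨γ⟩ := (Groth.Agent.H18Et.Subterminal.nonempty_hom_iff (W (V.hom v)) V').2 hg
  rw [res_res, res_res, res_cl g (ht'.good h V hV) (ht'.good h V' (mem_of_hom g hV)) (pullT_res _ _ _ _ _)]
  refine (res_congr _ (Subsingleton.elim _ (γ ≫ EtH90.opHom le_top)) σ₀).trans ?_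
  rw [← res_res]
  refine (congrArg (res (Cl j) γ) (hσ₀ _)).trans ?_
  refine (res_cl γ _ ((ht _).good h V' hg) (pullT_res _ _ _ _ _)).trans ?_
  exact (cl_indep h (ht _) ht' V' hg (mem_of_hom g hV)).symm

/-- A unit off the divisor is a unit times a power of an equation, locally. -/
theorem exists_factor (h : RegDiv i j) {W : X.Opens} {t : Γ(X, W)} (ht : IsChart i j W t) (V : X.Etale)
    [IsAffine V.left] (hV : ∀ v, V.hom v ∈ W) (a : Γ(pullback V.hom j, ⊤)ˣ) (v : V.left) :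
    ∃ (V' : X.Etale) (g : V' ⟶ V) (v' : V'.left) (hV' : ∀ z, V'.hom z ∈ W) (m : ℤ),
      g.left v' = v ∧ (cokernel.π (unitP j)).hom.app (op V') (res (P j) g (psec j V a)) =
        m • cl V' (ht.good h V' hV') := by
  have hT := ht.good h V hV
  haveI := h.isDomain_stalk V v
  haveI := H4Depth.isDomain_of_isRegularLocalRing (V.left.presheaf.stalk v)
  obtain ⟨A, k, hA⟩ := hT.exists_frac (a : Γ(pullback V.hom j, ⊤))
  obtain ⟨B, l, hB⟩ := hT.exists_frac ((a⁻¹ : Γ(pullback V.hom j, ⊤)ˣ) : Γ(pullback V.hom j, ⊤))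
  have hAB := hT.germ_eq h (A * B) (pullT W t V hV ^ (k + l)) (by
    rw [map_mul, hA, hB, map_pow, pow_add]
    linear_combination ((pullback.fst V.hom j).appTop (pullT W t V hV) ^ k *
      (pullback.fst V.hom j).appTop (pullT W t V hV) ^ l) * a.mul_inv) v
  rw [map_mul, map_pow] at hAB
  obtain ⟨n, e, he⟩ := exists_associated_pow ((hT v).elim (fun h => Or.inr h.2) fun h => Or.inl h.2) hAB
  obtain ⟨O, hvO, ε, hε⟩ := exists_unit_nbhd A (pullT W t V hV ^ n) v e (by rw [map_pow]; exact he)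
  have hV' := mem_of_hom (subι V O) hV
  refine ⟨sub V O, subι V O, ⟨v, hvO⟩, hV', (n : ℤ) - k, rfl, ?_⟩
  have key : Units.map (pmap j (subι V O)).appTop.hom.toMonoidHom a =
      Units.map (pullback.fst (sub V O).hom j).appTop.hom.toMonoidHom ε *
        (ht.good h (sub V O) hV').isUnit_fst.unit ^ ((n : ℤ) - k) := by
    rw [zpow_sub, zpow_natCast, zpow_natCast, ← mul_assoc, eq_mul_inv_iff_mul_eq]
    refine Units.ext ?_
    simp only [Units.val_mul, Units.val_pow_eq_pow_val, IsUnit.unit_spec]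
    have hp : ∀ c : Γ(V.left, ⊤), (pmap j (subι V O)).appTop ((pullback.fst V.hom j).appTop c) =
        (pullback.fst (sub V O).hom j).appTop (O.ι.appTop c) := fun c =>
      congrArg (fun f : pullback (sub V O).hom j ⟶ V.left => f.appTop c) (pmap_fst j (subι V O))
    have hA' := congrArg (pmap j (subι V O)).appTop hA
    rw [hp, map_mul, map_pow, hp, hε, map_pow, map_mul, map_pow, pullT_sub t V O hV hV'] at hA'
    exact hA'.symm
  rw [res_psec, key, psec_mul, map_add, ← unitP_sec, π_unitP, zero_add, psec_zpow, map_zsmul]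
  rfl

section Stalk

variable {Ω : Type u} [Field Ω] [IsSepClosed Ω] (ξ : Spec (CommRingCat.of Ω) ⟶ X)

theorem hom_ptOf {V : X.Etale} (x : (Scheme.pointSmallEtale ξ).fiber.obj V) :
    V.hom (ptOf x) = ξ.base default :=
  (Scheme.pointSmallEtaleFiberObjToPreimage ξ rfl x).2

theorem germ_res (F : EtCoh.Ab X) {V V' : X.Etale} (g : V' ⟶ V) (y : (Scheme.pointSmallEtale ξ).fiber.obj V')
    (s : EtCoh.sect F V) :
    germ ξ F V' y (res F g s) = germ ξ F V ((Scheme.pointSmallEtale ξ).fiber.map g y) s :=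
  (Scheme.pointSmallEtale ξ).toPresheafFiber_w_apply g y F.obj s

theorem germ_res_from (F : EtCoh.Ab X) {V : X.Etale} (x : (Scheme.pointSmallEtale ξ).fiber.obj V)
    (z : (Scheme.pointSmallEtale ξ).fiber.obj (EtCoh.top X)) (s : EtCoh.sect F (EtCoh.top X)) :
    germ ξ F V x (res F ((EtCore.topIsTerminal X).from V) s) = germ ξ F (EtCoh.top X) z s := by
  rw [germ_res, H18Et.MuConst.fiber_top_ext ξ ((Scheme.pointSmallEtale ξ).fiber.map _ x) z]

variable {σ : EtCoh.sect (Cl j) (EtCoh.top X)} (h : RegDiv i j)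
  (hσ : ∀ (W : X.Opens) (t : Γ(X, W)) (ht : IsChart i j W t) (V : X.Etale) (hV : ∀ v, V.hom v ∈ W),
    res (Cl j) ((EtCore.topIsTerminal X).from V) σ = cl V (ht.good h V hV))
  (z : (Scheme.pointSmallEtale ξ).fiber.obj (EtCoh.top X))

include hσ in
theorem exists_zsmul (p : (EtCoh.stalk ξ).obj (Cl j)) :
    ∃ m : ℤ, p = m • germ ξ (Cl j) (EtCoh.top X) z σ := by
  obtain ⟨q, rfl⟩ := (AddCommGrpCat.epi_iff_surjective ((EtCoh.stalk ξ).map (cokernel.π (unitP j)))).1
    ((H18Et.epi_iff_stalk _).1 inferInstance Ω ξ) p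
  obtain ⟨V, x, s, rfl⟩ := germ_surjective ξ (P j) q
  obtain ⟨a, rfl⟩ := psec_surjective j s
  obtain ⟨W, t, hW, ht⟩ := h.exists_chart (V.hom (ptOf x))
  obtain ⟨V₁, g₁, v₁, hv₁, hV₁, hgW⟩ := exists_nbhd W (ptOf x) hW
  obtain ⟨x₁, rfl⟩ := exists_fiber_lift g₁ x v₁ hv₁
  obtain ⟨V₂, g₂, v₂, hV₂, m, hv₂, hm⟩ := exists_factor h ht V₁ hgW
    (Units.map (pmap j g₁).appTop.hom.toMonoidHom a) (ptOf x₁)
  obtain ⟨x₂, rfl⟩ := exists_fiber_lift g₂ x₁ v₂ hv₂
  refine ⟨m, ?_⟩
  rw [germ_naturality]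
  refine ((germ_res ξ (Cl j) g₁ _ _).symm.trans ?_)
  rw [← res_app, res_psec]
  refine ((germ_res ξ (Cl j) g₂ _ _).symm.trans ?_)
  rw [← res_app, hm, ← hσ W t ht V₂ hV₂, map_zsmul, germ_res_from ξ (Cl j) x₂ z]

include hσ in
theorem germ_eq_zero (hξ : ξ.base default ∈ Set.range j) : germ ξ (Cl j) (EtCoh.top X) z σ = 0 := by
  obtain ⟨W, t, hW, ht⟩ := h.exists_chart (ξ.base default)
  have hz : (EtCoh.top X).hom (ptOf z) ∈ W ⊓ j.opensRange := by
    rw [hom_ptOf]; exact ⟨hW, hξ⟩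
  obtain ⟨V, g, v, hv, -, hVW⟩ := exists_nbhd (W ⊓ j.opensRange) (ptOf z) hz
  obtain ⟨x, rfl⟩ := exists_fiber_lift g z v hv
  rw [← germ_res, res_congr (Cl j) ((EtCore.topIsTerminal X).hom_ext g ((EtCore.topIsTerminal X).from V)),
    hσ W t ht V fun v => (hVW v).1]
  have hu : IsUnit (pullT W t V fun v => (hVW v).1) := by
    refine V.left.toRingedSpace.isUnit_of_isUnit_germ ⊤ _ fun v _ => ?_
    exact ((ht.good h V fun v => (hVW v).1) v).elim (fun h => h.2) fun h => absurd (hVW v).2 h.1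
  have : cl V (ht.good h V fun v => (hVW v).1) = 0 := by
    rw [cl, show (ht.good h V fun v => (hVW v).1).isUnit_fst.unit =
      Units.map (pullback.fst V.hom j).appTop.hom.toMonoidHom hu.unit from Units.ext rfl, ← unitP_sec, π_unitP]
  rw [this, map_zero]

include hσ in
theorem eq_zero_of_nsmul_eq_zero (hξ : ξ.base default ∉ Set.range j) (m : ℕ)
    (hm : m • germ ξ (Cl j) (EtCoh.top X) z σ = 0) : m = 0 := by
  obtain ⟨W, t, hW, ht⟩ := h.exists_chart (ξ.base default)
  have hz : (EtCoh.top X).hom (ptOf z) ∈ W := by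
    rw [hom_ptOf]; exact hW
  obtain ⟨V, g, v, hv, hVaff, hVW⟩ := exists_nbhd W (ptOf z) hz
  obtain ⟨x, rfl⟩ := exists_fiber_lift g z v hv
  rw [← germ_res, res_congr (Cl j) ((EtCore.topIsTerminal X).hom_ext g ((EtCore.topIsTerminal X).from V)),
    hσ W t ht V hVW, ← map_nsmul] at hm
  obtain ⟨V₁, g₁, x₁, hx₁, hzero⟩ := (germ_eq_iff ξ (Cl j) V x _ 0).1 (hm.trans (map_zero _).symm)
  obtain ⟨V₂, g₂, v₂, hv₂, hV₂, hV₂W⟩ := exists_nbhd W (ptOf x₁) (mem_of_hom g₁ hVW _)
  obtain ⟨x₂, rfl⟩ := exists_fiber_lift g₂ x₁ v₂ hv₂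
  replace hzero := congrArg (res (Cl j) g₂) hzero
  erw [map_zero, map_zero] at hzero
  rw [res_res] at hzero
  rw [map_nsmul, res_cl _ _ (ht.good h V₂ hV₂W) (pullT_res _ _ _ _ _)] at hzero
  have hT := ht.good h V₂ hV₂W
  haveI := h.mono_unitP
  let ev : EtCoh.Ab X ⥤ AddCommGrpCat.{u + 1} :=
    (sheafSections X.smallEtaleTopology AddCommGrpCat.{u + 1}).obj (op V₂)
  haveI : PreservesFiniteLimits ev := inferInstanceAs
    (PreservesFiniteLimits (sheafToPresheaf _ _ ⋙ (evaluation _ _).obj (op V₂)))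
  obtain ⟨b, hb⟩ := (ShortComplex.ab_exact_iff _).1
    ((ShortComplex.exact_cokernel (unitP j)).map_of_mono_of_preservesKernel ev inferInstance inferInstance)
    (m • psec j V₂ hT.isUnit_fst.unit) (show (cokernel.π (unitP j)).hom.app (op V₂) _ = 0 from
      (map_nsmul _ _ _).trans hzero)
  obtain ⟨ε, rfl⟩ := sec_surjective b
  rw [← natCast_zsmul, ← psec_zpow] at hb
  have hb' := congrArg Units.val (psec_injective j ((unitP_sec j V₂ ε).symm.trans hb))
  rw [zpow_natCast, Units.val_pow_eq_pow_val, IsUnit.unit_spec] at hb'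
  have hg := hT.germ_eq h (ε : Γ(V₂.left, ⊤)) (pullT W t V₂ hV₂W ^ m) (by rw [map_pow]; exact hb') (ptOf x₂)
  rw [map_pow] at hg
  by_contra hm0
  have hu : IsUnit (V₂.left.presheaf.germ ⊤ (ptOf x₂) trivial (pullT W t V₂ hV₂W)) :=
    (isUnit_pow_iff hm0).1 (hg ▸ ε.isUnit.map _)
  rcases hT (ptOf x₂) with h1 | h1
  · exact hξ (hom_ptOf ξ x₂ ▸ h1.1)
  · exact h1.2.not_isUnit hu

include hσ in
theorem bijective_zsmul (hξ : ξ.base default ∉ Set.range j) :
    Function.Bijective fun m : ℤ => m • germ ξ (Cl j) (EtCoh.top X) z σ := by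
  refine ⟨?_, fun p => (exists_zsmul ξ h hσ z p).imp fun m hm => hm.symm⟩
  intro a b hab
  have h0 : (a - b) • germ ξ (Cl j) (EtCoh.top X) z σ = 0 := by
    rw [sub_zsmul, ← sub_eq_add_neg, sub_eq_zero]; exact hab
  obtain ⟨k, hk | hk⟩ := Int.eq_nat_or_neg (a - b) <;> rw [hk] at h0
  · rw [natCast_zsmul] at h0
    have := eq_zero_of_nsmul_eq_zero ξ h hσ z hξ k h0
    omega
  · rw [neg_zsmul, neg_eq_zero, natCast_zsmul] at h0
    have := eq_zero_of_nsmul_eq_zero ξ h hσ z hξ k h0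
    omega

end Stalk

theorem liftsEtaleUniv_closed (i : D ⟶ X) [IsClosedImmersion i] : H18Et.LiftsEtaleUniv i :=
  H18Et.liftsEtaleUniv_of_integral_universallyInjective i

/-- The classes are the direct image of the integers on the divisor. -/
theorem nonempty_Cl_iso (h : RegDiv i j) :
    Nonempty (Cl j ≅ (EtCoh.push i).obj (EtCoh.const D ℤ)) := by
  obtain ⟨σ, hσ⟩ := exists_divClass h
  have hl : H18Et.LiftsEtaleUniv i := liftsEtaleUniv_closed i
  have hcl : IsClosed (Set.range i.base) := i.isClosedEmbedding.isClosed_range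
  have hsupp : EtPBC.supp (Cl j) ⊆ Set.range i.base := by
    rintro x ⟨Ω, _, _, ξ, hξ, hne⟩
    by_contra hx
    refine hne (AddCommGrpCat.isZero_iff_subsingleton.2 (subsingleton_of_forall_eq 0 fun p => ?_))
    have h0 : ξ.base default = x := Set.mem_singleton_iff.mp (hξ ▸ Set.mem_range_self _)
    obtain ⟨z⟩ : Nonempty ((Scheme.pointSmallEtale ξ).fiber.obj (EtCoh.top X)) :=
      ⟨Over.homMk ξ (Category.comp_id _)⟩
    obtain ⟨m, rfl⟩ := exists_zsmul ξ h hσ z p
    rw [germ_eq_zero ξ h hσ z (h.compl.ge (by rw [h0]; exact hx)), smul_zero]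
  obtain ⟨G, ⟨e⟩⟩ := (H18Et.push_essImage_iff hl hcl (Cl j)).2 hsupp
  haveI := H18Et.isIso_counit_of_liftsEtaleUniv hl G
  let M := AddCommGrpCat.of (ULift.{u + 1} ℤ)
  let s := H18Et.ConstSheaf.pullSec i (Cl j) σ
  let φ : M ⟶ ((EtCoh.pull i).obj (Cl j)).obj.obj (op (EtCoh.top D)) :=
    AddCommGrpCat.ofHom ((zmultiplesHom _ s).comp AddEquiv.ulift.toAddMonoidHom)
  haveI : IsIso (H18Et.ConstSheaf.homConst _ φ) := by
    refine H18Et.ConstSheaf.isIso_homConst _ φ ?_
    intro Ω _ _ ζ U x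
    let x₀ := (Scheme.pointSmallEtale ζ).fiber.map ((EtCore.topIsTerminal D).from U) x
    let z := (H18Et.fiberCompIso i ζ).hom.app (EtCoh.top X)
      ((Scheme.pointSmallEtale ζ).fiber.map (H18Et.ConstSheaf.toBcTop i) x₀)
    have hζ : (ζ ≫ i).base default ∉ Set.range j := fun hj => h.compl.le hj ⟨_, (Scheme.Hom.comp_apply _ _ _).symm⟩
    have key : (fun m : M => germ ζ ((EtCoh.pull i).obj (Cl j)) U x
          (H18Et.ConstSheaf.rest ((EtCoh.pull i).obj (Cl j)) U (φ m))) =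
        (fun p => (H18Et.stalkPullIso i ζ).inv.app (Cl j) p) ∘
          (fun m : ℤ => m • germ (ζ ≫ i) (Cl j) (EtCoh.top X) z σ) ∘ (fun m : M => m.down) := funext fun m => by
      show germ ζ ((EtCoh.pull i).obj (Cl j)) U x (H18Et.ConstSheaf.rest ((EtCoh.pull i).obj (Cl j)) U (m.down • s)) = _
      rw [H18Et.ConstSheaf.germ_rest ζ ((EtCoh.pull i).obj (Cl j)) U x (m.down • s), map_zsmul, H18Et.ConstSheaf.germ_pullSec]
      exact (map_zsmul _ _ _).symm
    rw [key]
    exact (ConcreteCategory.bijective_of_isIso ((H18Et.stalkPullIso i ζ).inv.app (Cl j))).comp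
      ((bijective_zsmul (ζ ≫ i) h hσ z hζ).comp AddEquiv.ulift.bijective)
  exact ⟨e.symm ≪≫ (EtCoh.push i).mapIso ((asIso ((EtCoh.pullPushAdj i).counit.app G)).symm ≪≫
    (EtCoh.pull i).mapIso e ≪≫ (asIso (H18Et.ConstSheaf.homConst _ φ)).symm)⟩

end Groth.Agent.H05EGA4.EtDiv
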