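import Groth.Agent.H05EGA4.EtDiv.Units
import Groth.Agent.H05EGA4.EtH90.Pic
import Groth.Agent.H05EGA4.EtTateRes
import Groth.Agent.H11Ample.Restrict
import Groth.Agent.H29Ref.DenseExt
import Groth.Agent.H28Alg.RegularUFD

/-!
# `R¹ j_* G_m = 0` for an open subscheme of a regular scheme
-/

set_option autoImplicit false
set_option linter.style.haveILetI false
set_option linter.unusedSectionVars false
set_option backward.isDefEq.respectTransparency false
set_option backward.isDefEq.respectTransparency.types false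

universe u

open CategoryTheory CategoryTheory.Limits AlgebraicGeometry Opposite TopologicalSpace

namespace Groth.Agent.H05EGA4.EtDiv

open Groth.Agent.H11Tilde
open Groth.Agent.H05EGA4.EtH90
open Groth.Agent.H18Et.Subterminal (ofOpen)
open Groth.Agent.H18Et.EtaleRestrict (emap resPushAdj pullIso)
open scoped Groth.Agent.H18Et

/-- A section whose module has a generator over an open lifts there. -/
theorem exists_lift_of_gen {Y : Scheme.{u}} {I Q : EtCoh.Ab Y} {i : EtCoh.Gm Y ⟶ I} {q : I ⟶ Q} {w : i ≫ q = 0}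
    (hS : (ShortComplex.mk i q w).ShortExact) {t : EtCoh.sect Q (EtCoh.top Y)} {L : Y.Modules} (hrep : Rep i q t L)
    {O : Y.Opens} {g : Γ(L, O)} (hg : IsGen L g) : ∃ r : osect I O, gq q O r = gs O t := by
  obtain ⟨J, V, e, r, hV, he, hr, hc⟩ := hrep
  have hu : ∀ a, ∃ v : Γ(Y, V a ⊓ O)ˣ, L.presheaf.map (homOfLE inf_le_left).op (e a) =
      (v : Γ(Y, V a ⊓ O)) • L.presheaf.map (homOfLE inf_le_right).op g := fun a => by
    obtain ⟨c, hc⟩ := H11Ample.exists_coeff (hg.res (inf_le_right : V a ⊓ O ≤ O))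
      (L.presheaf.map (homOfLE inf_le_left).op (e a))
    obtain ⟨c', hc'⟩ := H11Ample.exists_coeff ((he a).res (inf_le_left : V a ⊓ O ≤ V a))
      (L.presheaf.map (homOfLE inf_le_right).op g)
    have h1 : c * c' = 1 := by
      refine ((he a).bijective (inf_le_left : V a ⊓ O ≤ V a)).1 ?_
      show (c * c') • _ = (1 : Γ(Y, V a ⊓ O)) • _
      rw [one_smul, mul_smul, ← hc', ← hc]
    refine ⟨(IsUnit.of_mul_eq_one _ h1).unit, ?_⟩
    rw [IsUnit.unit_spec]
    exact hc
  choose v hv using hu
  obtain ⟨r', hr'⟩ := EtH90.exists_glue I (fun a => V a ⊓ O) (W := O) (fun a => inf_le_right)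
    (fun x hx => (hV x).imp fun a ha => ⟨ha, hx⟩) (fun a => ores I inf_le_left (r a) + iu i (v a)) fun a b => by
      let T := (V a ⊓ O) ⊓ (V b ⊓ O)
      have pa : T ≤ V a := inf_le_left.trans inf_le_left
      have pb : T ≤ V b := inf_le_right.trans inf_le_left
      have po : T ≤ O := inf_le_left.trans inf_le_right
      obtain ⟨s, hs⟩ := exists_trans hS (hr a) (hr b) pa pb
      have h := hc a b T pa pb s hs
      have ha := congrArg (L.presheaf.map (homOfLE (inf_le_left : T ≤ V a ⊓ O)).op) (hv a)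
      have hb := congrArg (L.presheaf.map (homOfLE (inf_le_right : T ≤ V b ⊓ O)).op) (hv b)
      rw [L.map_smul, H10Coh.mres_mres, H10Coh.mres_mres] at ha hb
      rw [ha, hb, smul_smul] at h
      have h' : ru inf_le_right (v b) = s * ru inf_le_left (v a) := Units.ext ((hg.bijective po).1 h)
      rw [map_add, map_add, ores_ores, ores_ores, iu_res, iu_res, h', iu_mul, hs]
      abel
  refine ⟨r', eq_of_locally Q (fun a => V a ⊓ O) (fun a => inf_le_right) (fun x hx => (hV x).imp fun a ha => ⟨ha, hx⟩)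
    _ _ fun a => ?_⟩
  rw [← gq_res, hr', map_add, gq_iu hS, add_zero, gq_res, hr, ores_gs, ores_gs]

variable {U X : Scheme.{u}} (j : U ⟶ X) [IsOpenImmersion j]

theorem nonempty_res_res_Gm {Y : Scheme.{u}} (k : Y ⟶ U) [Etale k] :
    Nonempty ((H18Et.EtaleRestrict.res k).obj ((H18Et.EtaleRestrict.res j).obj (EtCoh.Gm X)) ≅ EtCoh.Gm Y) :=
  ⟨(sheafToPresheaf _ _).preimageIso (NatIso.ofComponents (fun U => Iso.refl _) fun f => rfl)⟩

/-- Direct image preserves the surjection onto the quotient of an extension of units. -/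
theorem epi_push_g [IsNoetherian X] (hX : ∀ x : X, IsRegularLocalRing (X.presheaf.stalk x))
    {S : ShortComplex (EtCoh.Ab U)} (hS : S.ShortExact) (a : S.X₁ ≅ (H18Et.EtaleRestrict.res j).obj (EtCoh.Gm X)) :
    Epi ((EtCoh.push j).map S.g) := by
  haveI : Sheaf.IsLocallySurjective ((EtCoh.push j).map S.g) := by
    refine ⟨fun {W} s => H18Et.mem_topology_of_forall_point _ fun w => ?_⟩
    haveI : Etale W.hom := W.prop
    haveI : IsLocallyNoetherian W.left :=
      haveI : IsLocallyNoetherian ((Functor.fromPUnit X).obj W.right) := inferInstanceAs (IsLocallyNoetherian X)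
      LocallyOfFiniteType.isLocallyNoetherian W.hom
    let O : W.left.Opens := (pullback.fst W.hom j).opensRange
    let k : O.toScheme ⟶ U := (pullback.fst W.hom j).isoOpensRange.inv ≫ pullback.snd W.hom j
    haveI : Etale k := inferInstance
    let ι₀ : (emap k).obj (EtCoh.top O.toScheme) ⟶ (EtCoh.bc j).obj W :=
      MorphismProperty.Over.homMk (pullback.fst W.hom j).isoOpensRange.inv (Category.id_comp _).symm trivial
    haveI : PreservesFiniteLimits (H18Et.EtaleRestrict.res k) := by
      haveI := H18Et.pull_preservesFiniteLimits k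
      exact preservesFiniteLimits_of_natIso (pullIso k)
    haveI : PreservesFiniteColimits (H18Et.EtaleRestrict.res k) :=
      ⟨fun _ _ _ => (resPushAdj k).leftAdjoint_preservesColimits.preservesColimitsOfShape⟩
    haveI : (H18Et.EtaleRestrict.res k).Additive := Functor.additive_of_preserves_binary_products _
    let e := (H18Et.EtaleRestrict.res k).mapIso a ≪≫ (nonempty_res_res_Gm j k).some
    have hS' : (ShortComplex.mk (e.inv ≫ (H18Et.EtaleRestrict.res k).map S.f) ((H18Et.EtaleRestrict.res k).map S.g)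
        (by rw [Category.assoc, ← Functor.map_comp, S.zero, Functor.map_zero, comp_zero])).ShortExact :=
      ShortComplex.shortExact_of_iso (S₁ := S.map (H18Et.EtaleRestrict.res k))
        (ShortComplex.isoMk e (Iso.refl _) (Iso.refl _)
          (show e.hom ≫ e.inv ≫ (H18Et.EtaleRestrict.res k).map S.f = (H18Et.EtaleRestrict.res k).map S.f ≫ 𝟙 _ by
            rw [Iso.hom_inv_id_assoc, Category.comp_id])
          (show 𝟙 _ ≫ (H18Et.EtaleRestrict.res k).map S.g = (H18Et.EtaleRestrict.res k).map S.g ≫ 𝟙 _ by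
            rw [Category.id_comp, Category.comp_id]))
        (hS.map_of_exact (H18Et.EtaleRestrict.res k))
    let t : EtCoh.sect ((H18Et.EtaleRestrict.res k).obj S.X₃) (EtCoh.top O.toScheme) := S.X₃.obj.map ι₀.op s
    obtain ⟨L, hL, hrep⟩ := exists_rep hS' t
    have hufd : ∀ x : W.left, x ∉ O → UniqueFactorizationMonoid (W.left.presheaf.stalk x) := fun x _ => by
      haveI : IsLocallyNoetherian ((Functor.fromPUnit X).obj W.right) := inferInstanceAs (IsLocallyNoetherian X)
      haveI : IsRegularLocalRing (W.left.presheaf.stalk x) :=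
        (S4991.result W.hom x ⟨⊤, trivial, inferInstance⟩).2 (hX _)
      haveI := H4Depth.isDomain_of_isRegularLocalRing (W.left.presheaf.stalk x)
      exact H28Alg.ufd_of_regular _
    obtain ⟨L', hL', ⟨φ⟩⟩ := H29Ref.exists_invertible_extension O L hL hufd
    obtain ⟨B, g₀, hwB, hg₀⟩ := H11Ample.exists_gen hL' w
    let B₀ : O.toScheme.Opens := O.ι ⁻¹ᵁ B
    have hg := IsGen.map_iso φ (H11Ample.isGen_restrict O hg₀ (W := B₀) (Scheme.Hom.image_preimage_le O.ι B))
    obtain ⟨r, hr⟩ := exists_lift_of_gen hS' hrep hg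
    -- transport the lift to the neighbourhood `B` of `w`
    let V' := sub W B
    have hrange : Set.range (pullback.fst V'.hom j ≫ B.ι) ⊆ Set.range O.ι := by
      rintro _ ⟨p, rfl⟩
      rw [Scheme.Opens.range_ι]
      have hp : (B.ι ≫ W.hom) ((pullback.fst V'.hom j) p) = j ((pullback.snd V'.hom j) p) :=
        (Scheme.Hom.comp_apply _ _ _).symm.trans ((congrArg (fun f : pullback V'.hom j ⟶ X => f p)
          (pullback.condition (f := V'.hom) (g := j))).trans (Scheme.Hom.comp_apply _ _ _))
      show (pullback.fst V'.hom j ≫ B.ι) p ∈ (pullback.fst W.hom j).opensRange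
      show _ ∈ Set.range (pullback.fst W.hom j).base
      rw [Scheme.Pullback.range_fst]
      rw [Scheme.Hom.comp_apply] at hp ⊢
      exact ⟨_, hp.symm⟩
    let α₀ := IsOpenImmersion.lift O.ι (pullback.fst V'.hom j ≫ B.ι) hrange
    have hα₀ : α₀ ≫ O.ι = pullback.fst V'.hom j ≫ B.ι := IsOpenImmersion.lift_fac _ _ _
    have hB₀ : Set.range α₀ ⊆ Set.range B₀.ι := by
      rintro _ ⟨p, rfl⟩
      rw [Scheme.Opens.range_ι]
      show O.ι (α₀ p) ∈ B
      rw [← Scheme.Hom.comp_apply, hα₀, Scheme.Hom.comp_apply]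
      exact ((pullback.fst V'.hom j) p).2
    let α₁ := IsOpenImmersion.lift B₀.ι α₀ hB₀
    have hα₁ : α₁ ≫ B₀.ι = α₀ := IsOpenImmersion.lift_fac _ _ _
    have hιfst : (pullback.fst W.hom j).isoOpensRange.inv ≫ pullback.fst W.hom j = O.ι :=
      (pullback.fst W.hom j).isoOpensRange_inv_comp
    have hfst : α₁ ≫ B₀.ι ≫ k = pullback.snd V'.hom j := by
      rw [← Category.assoc, hα₁, ← cancel_mono j]
      simp only [k, Category.assoc]
      rw [← pullback.condition, ← Category.assoc (pullback.fst W.hom j).isoOpensRange.inv, hιfst, ← Category.assoc,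
        hα₀, Category.assoc, ← pullback.condition]
      rfl
    let α : (EtCoh.bc j).obj V' ⟶ (emap k).obj (ofOpen B₀) := MorphismProperty.Over.homMk α₁ hfst trivial
    refine ⟨V', subι W B, ⟨w, hwB⟩, ⟨S.X₂.obj.map α.op r, ?_⟩, rfl⟩
    show S.g.hom.app (op ((EtCoh.bc j).obj V')) (S.X₂.obj.map α.op r) =
      S.X₃.obj.map ((EtCoh.bc j).map (subι W B)).op s
    refine (res_app S.g α r).trans ?_
    refine (congrArg (res S.X₃ α) (show S.g.hom.app (op ((emap k).obj (ofOpen B₀))) r =
      res S.X₃ ((emap k).map ((EtCore.topIsTerminal O.toScheme).from (ofOpen B₀))) (res S.X₃ ι₀ s) from hr)).trans ?_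
    rw [res_res, res_res]
    refine res_congr S.X₃ (MorphismProperty.Over.Hom.ext ?_) s
    apply pullback.hom_ext
    · have e1 : ((EtCore.topIsTerminal O.toScheme).from (ofOpen B₀)).left = B₀.ι :=
        (Category.comp_id _).symm.trans (Over.w ((EtCore.topIsTerminal O.toScheme).from (ofOpen B₀)).hom)
      show (α₁ ≫ ((EtCore.topIsTerminal O.toScheme).from (ofOpen B₀)).left ≫
        (pullback.fst W.hom j).isoOpensRange.inv) ≫ pullback.fst W.hom j = _ ≫ pullback.fst W.hom j
      rw [e1, Category.assoc, Category.assoc, hιfst, ← Category.assoc, hα₁, hα₀]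
      exact (pullback.lift_fst _ _ _).symm
    · exact (Over.w (α ≫ (emap k).map ((EtCore.topIsTerminal O.toScheme).from (ofOpen B₀)) ≫ ι₀).hom).trans
        (Over.w ((EtCoh.bc j).map (subι W B)).hom).symm
  exact Sheaf.epi_of_isLocallySurjective _

end Groth.Agent.H05EGA4.EtDiv
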