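import Groth.Agent.H05EGA4.EtDiv.Coker
import Groth.Agent.H05EGA4.EtDiv.Rone
import Groth.Agent.H16Derived.AcyclicLES
import Groth.Agent.S0108
import Groth.Agent.S6658
import Groth.Agent.S5176
import Mathlib.CategoryTheory.Sites.ConstantSheaf

/-!
# Local cohomology of `μ_n` along a regular divisor
-/

set_option autoImplicit false
set_option linter.style.haveILetI false
set_option linter.unusedSectionVars false
set_option backward.isDefEq.respectTransparency false
set_option backward.isDefEq.respectTransparency.types false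

universe u

open CategoryTheory CategoryTheory.Limits AlgebraicGeometry Opposite TopologicalSpace

namespace Groth.Agent.H05EGA4.EtDiv

open Groth.Agent.H18Et.EtaleRestrict (emap resPushAdj pullIso)
open scoped Groth.Agent.H18Et

variable {X D U : Scheme.{u}} {i : D ⟶ X} {j : U ⟶ X} [IsNoetherian X] [IsClosedImmersion i] [IsOpenImmersion j]

theorem ne_zero_of_point {n : ℕ} (hn : IsUnit (n : Γ(X, ⊤))) (x : X) : n ≠ 0 := fun h0 => by
  subst h0
  exact not_isUnit_zero (M₀ := X.presheaf.stalk x) (by simpa using hn.map (X.presheaf.germ ⊤ x trivial).hom)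

theorem mono_nsmul_Cl (h : RegDiv i j) {n : ℕ} (hn : IsUnit (n : Γ(X, ⊤))) : Mono (n • 𝟙 (Cl j)) := by
  obtain ⟨σ, hσ⟩ := exists_divClass h
  refine H18Et.mono_of_stalk _ fun x => ⟨_, _, SeparableClosure.isSepClosed _, H18Et.geomPt x, H18Et.geomPt_base x, ?_⟩
  obtain ⟨z⟩ : Nonempty ((Scheme.pointSmallEtale (H18Et.geomPt x)).fiber.obj (EtCoh.top X)) :=
    ⟨Over.homMk (H18Et.geomPt x) (Category.comp_id _)⟩
  rw [Functor.map_nsmul, CategoryTheory.Functor.map_id, injective_iff_map_eq_zero]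
  intro p hp
  replace hp : n • p = 0 := hp
  by_cases hx : x ∈ Set.range j
  · obtain ⟨m, rfl⟩ := exists_zsmul (H18Et.geomPt x) h hσ z p
    rw [germ_eq_zero (H18Et.geomPt x) h hσ z (by rwa [H18Et.geomPt_base]), smul_zero]
  · have hb := bijective_zsmul (H18Et.geomPt x) h hσ z (by rwa [H18Et.geomPt_base])
    obtain ⟨m, rfl⟩ := hb.2 p
    rw [← natCast_zsmul, smul_smul] at hp
    have := hb.1 (hp.trans (zero_smul ℤ _).symm)
    rcases mul_eq_zero.1 this with h0 | h0
    · exact absurd (Int.natCast_eq_zero.1 h0) (ne_zero_of_point hn x)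
    · subst h0; exact zero_smul ℤ _

theorem isIso_unit_mu (h : RegDiv i j) [EtCoh.BCCont j] {n : ℕ} (hn : IsUnit (n : Γ(X, ⊤))) :
    IsIso (EtDual.unitApp j (EtCoh.mu X n)) := by
  haveI : PreservesFiniteLimits (H18Et.EtaleRestrict.res j) := by
    haveI := H18Et.pull_preservesFiniteLimits j
    exact preservesFiniteLimits_of_natIso (pullIso j)
  haveI : PreservesFiniteLimits (EtCoh.push j) :=
    (EtCoh.pullPushAdj j).rightAdjoint_preservesLimits.{0, 0}.preservesFiniteLimits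
  let R := H18Et.EtaleRestrict.res j ⋙ EtCoh.push j
  haveI : PreservesFiniteLimits R := comp_preservesFiniteLimits _ _
  haveI : R.Additive := Functor.additive_of_preserves_binary_products _
  let η : 𝟭 _ ⟶ R := (resPushAdj j).unit
  haveI hmono : Mono (η.app (EtCoh.Gm X)) := h.mono_unitP
  haveI : Mono (EtCoh.muι X n) := inferInstanceAs (Mono (kernel.ι _))
  haveI : Mono (R.map (EtCoh.muι X n)) := inferInstance
  have hnat : EtCoh.muι X n ≫ η.app (EtCoh.Gm X) = η.app (EtCoh.mu X n) ≫ R.map (EtCoh.muι X n) :=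
    η.naturality (EtCoh.muι X n)
  haveI hm : Mono (η.app (EtCoh.mu X n)) := mono_of_mono_fac hnat.symm
  have hk : n • R.map (EtCoh.muι X n) = 0 := by
    rw [← Functor.map_nsmul]
    have h0 : n • EtCoh.muι X n = 0 := by
      have := kernel.condition (EtCoh.powMap X n)
      rwa [EtCoh.powMap, Preadditive.comp_nsmul, Category.comp_id] at this
    rw [h0, Functor.map_zero]
  haveI := mono_nsmul_Cl h hn
  have h1 : R.map (EtCoh.muι X n) ≫ cokernel.π (unitP j) = 0 := by
    rw [← cancel_mono (n • 𝟙 (Cl j)), zero_comp, Preadditive.comp_nsmul, Category.comp_id,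
      ← Preadditive.nsmul_comp, hk, zero_comp]
  obtain ⟨l, hl⟩ : ∃ l, l ≫ η.app (EtCoh.Gm X) = R.map (EtCoh.muι X n) :=
    haveI : Mono (ShortComplex.mk (unitP j) (cokernel.π (unitP j)) (cokernel.condition _)).f := hmono
    ⟨(ShortComplex.exact_cokernel (unitP j)).lift _ h1, (ShortComplex.exact_cokernel (unitP j)).lift_f _ h1⟩
  have h2 : l ≫ EtCoh.powMap X n = 0 := by
    rw [← cancel_mono (η.app (EtCoh.Gm X)), zero_comp, EtCoh.powMap, Preadditive.comp_nsmul]
    erw [Category.comp_id]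
    rw [Preadditive.nsmul_comp, hl, hk]
  have h3 : kernel.lift (EtCoh.powMap X n) l h2 ≫ η.app (EtCoh.mu X n) = 𝟙 _ := by
    rw [← cancel_mono (R.map (EtCoh.muι X n)), Category.assoc, ← hnat, Category.id_comp, ← hl, ← Category.assoc]
    exact congrArg (· ≫ η.app (EtCoh.Gm X)) (kernel.lift_ι (EtCoh.powMap X n) l h2)
  haveI : Epi (η.app (EtCoh.mu X n)) := epi_of_epi_fac h3
  haveI : IsIso (η.app (EtCoh.mu X n)) := isIso_of_mono_of_epi _
  have hu := Adjunction.unit_leftAdjointUniq_hom_app (EtCoh.pullPushAdj j) (resPushAdj j) (EtCoh.mu X n)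
  haveI : IsIso (EtDual.unitApp j (EtCoh.mu X n) ≫
      (EtCoh.push j).map ((pullIso j).hom.app (EtCoh.mu X n))) := by
    rw [show EtDual.unitApp j (EtCoh.mu X n) ≫ (EtCoh.push j).map ((pullIso j).hom.app (EtCoh.mu X n)) =
      η.app (EtCoh.mu X n) from hu]
    infer_instance
  exact IsIso.of_isIso_comp_right _ ((EtCoh.push j).map ((pullIso j).hom.app (EtCoh.mu X n)))

/-- `R¹ j_*` of the units vanishes. -/
theorem isZero_Rpush_one_Gm (h : RegDiv i j) [EtCoh.BCCont j] :
    IsZero ((EtCoh.Rpush j 1).obj ((H18Et.EtaleRestrict.res j).obj (EtCoh.Gm X))) := by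
  haveI : PreservesFiniteLimits (EtCoh.push j) :=
    (EtCoh.pullPushAdj j).rightAdjoint_preservesLimits.{0, 0}.preservesFiniteLimits
  let A := (H18Et.EtaleRestrict.res j).obj (EtCoh.Gm X)
  let S := ShortComplex.mk (Injective.ι A) (cokernel.π (Injective.ι A)) (cokernel.condition _)
  have hS : S.ShortExact :=
    { exact := ShortComplex.exact_cokernel _, mono_f := inferInstanceAs (Mono (Injective.ι A)),
      epi_g := inferInstanceAs (Epi (cokernel.π (Injective.ι A))) }
  obtain ⟨T, hT, e₁, e₂, -, a₂, a₃, ha₂, ha₃, hc⟩ := H16Derived.AcyclicLES.exists_les (EtCoh.push j) S hS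
  haveI : Epi ((EtCoh.push j).map S.g) := epi_push_g j h.xreg hS (Iso.refl A)
  haveI : Epi (HomologicalComplex.homologyMap T.g 0) := by
    haveI : Epi (a₂ ≫ HomologicalComplex.homologyMap T.g 0) := by rw [hc]; infer_instance
    exact epi_of_epi a₂ _
  have hI : IsZero (T.X₂.homology ((1 : ℕ) : ℤ)) :=
    ((EtCoh.push j).isZero_rightDerived_obj_injective_succ 0 (Injective.under A)).of_iso (e₂ 1).some.symm
  refine IsZero.of_iso ?_ (e₁ 1).some
  exact (hT.homology_exact₁ (0 : ℤ) ((1 : ℕ) : ℤ) (by simp)).isZero_X₂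
    ((cancel_epi (HomologicalComplex.homologyMap T.g 0)).1
      ((hT.comp_δ (0 : ℤ) ((1 : ℕ) : ℤ) (by simp)).trans comp_zero.symm))
    (hI.eq_of_tgt _ _)

/-- `R¹ j_* μ_n` is the cokernel of multiplication by `n` on `j_* j^* G_m`. -/
theorem nonempty_Rpush_one_mu (h : RegDiv i j) [EtCoh.BCCont j] {n : ℕ} (hn : IsUnit (n : Γ(X, ⊤))) :
    Nonempty ((EtCoh.Rpush j 1).obj ((EtCoh.pull j).obj (EtCoh.mu X n)) ≅ cokernel (n • 𝟙 (P j))) := by
  haveI : PreservesFiniteLimits (EtCoh.push j) :=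
    (EtCoh.pullPushAdj j).rightAdjoint_preservesLimits.{0, 0}.preservesFiniteLimits
  haveI : PreservesFiniteLimits (H18Et.EtaleRestrict.res j) := by
    haveI := H18Et.pull_preservesFiniteLimits j
    exact preservesFiniteLimits_of_natIso (pullIso j)
  haveI : PreservesFiniteColimits (H18Et.EtaleRestrict.res j) :=
    ⟨fun _ _ _ => (resPushAdj j).leftAdjoint_preservesColimits.preservesColimitsOfShape⟩
  haveI : (H18Et.EtaleRestrict.res j).Additive := Functor.additive_of_preserves_binary_products _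
  haveI := S0108.result X n hn
  let K := ShortComplex.mk (EtCoh.muι X n) (EtCoh.powMap X n) (kernel.condition _)
  have hK : K.ShortExact :=
    { exact := ShortComplex.exact_kernel _, mono_f := inferInstanceAs (Mono (kernel.ι _)),
      epi_g := inferInstanceAs (Epi (EtCoh.powMap X n)) }
  have hS := hK.map_of_exact (H18Et.EtaleRestrict.res j)
  obtain ⟨T, hT, e₁, e₂, -, a₂, a₃, ha₂, ha₃, hc⟩ :=
    H16Derived.AcyclicLES.exists_les (EtCoh.push j) _ hS
  have hI : IsZero (T.X₂.homology ((1 : ℕ) : ℤ)) := (isZero_Rpush_one_Gm h).of_iso (e₂ 1).some.symm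
  haveI : Epi (hT.δ (0 : ℤ) ((1 : ℕ) : ℤ) (by simp)) :=
    (hT.homology_exact₁ (0 : ℤ) ((1 : ℕ) : ℤ) _).epi_f (hI.eq_of_tgt _ _)
  have hcok := (hT.homology_exact₃ (0 : ℤ) ((1 : ℕ) : ℤ) _).gIsCokernel
  let μ' := (EtCoh.push j).map ((H18Et.EtaleRestrict.res j).map (EtCoh.powMap X n))
  have hμ : μ' = n • 𝟙 (P j) := by
    simp only [μ', EtCoh.powMap, Functor.map_nsmul, CategoryTheory.Functor.map_id]
  exact ⟨(EtCoh.Rpush j 1).mapIso ((pullIso j).app (EtCoh.mu X n)) ≪≫ (e₁ 1).some ≪≫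
    (colimit.isoColimitCocone ⟨_, hcok⟩).symm ≪≫
    (cokernel.mapIso μ' _ (asIso a₂) (asIso a₃) hc.symm).symm ≪≫ cokernelIsoOfEq hμ⟩

/-- Dividing `n` commutes with passing to divisor classes. -/
theorem nonempty_coker_P (j : U ⟶ X) [IsOpenImmersion j] {n : ℕ} (hn : IsUnit (n : Γ(X, ⊤))) :
    Nonempty (cokernel (n • 𝟙 (P j)) ≅ cokernel (n • 𝟙 (Cl j))) := by
  haveI := S0108.result X n hn
  have h0 : unitP j ≫ cokernel.π (n • 𝟙 (P j)) = 0 := by
    rw [← cancel_epi (EtCoh.powMap X n), comp_zero, EtCoh.powMap, Preadditive.nsmul_comp, Category.id_comp,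
      ← Preadditive.nsmul_comp]
    conv_lhs => rw [show n • unitP j = unitP j ≫ (n • 𝟙 (P j)) by rw [Preadditive.comp_nsmul, Category.comp_id]]
    rw [Category.assoc, cokernel.condition, comp_zero]
  let f : cokernel (n • 𝟙 (P j)) ⟶ cokernel (n • 𝟙 (Cl j)) :=
    cokernel.map _ _ (cokernel.π _) (cokernel.π _) (by
      rw [Preadditive.nsmul_comp, Preadditive.comp_nsmul, Category.id_comp, Category.comp_id])
  let g : cokernel (n • 𝟙 (Cl j)) ⟶ cokernel (n • 𝟙 (P j)) :=
    cokernel.desc _ (cokernel.desc _ (cokernel.π (n • 𝟙 (P j))) h0) (by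
      rw [← cancel_epi (cokernel.π (unitP j)), comp_zero, ← Category.assoc, Preadditive.comp_nsmul, Category.comp_id,
        Preadditive.nsmul_comp, cokernel.π_desc]
      have := cokernel.condition (n • 𝟙 (P j))
      rwa [Preadditive.nsmul_comp, Category.id_comp] at this)
  exact ⟨{ hom := f, inv := g
           hom_inv_id := by
             apply coequalizer.hom_ext
             simp [f, g]
           inv_hom_id := by
             apply coequalizer.hom_ext
             apply coequalizer.hom_ext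
             simp [f, g] }⟩

theorem nonempty_coker_const (D : Scheme.{u}) (n : ℕ) :
    Nonempty (cokernel (n • 𝟙 (EtCoh.const D ℤ)) ≅ EtCoh.const D (ZMod n)) := by
  let G := constantSheaf D.smallEtaleTopology AddCommGrpCat.{u + 1}
  let adj := constantSheafAdj D.smallEtaleTopology AddCommGrpCat.{u + 1} (EtCore.topIsTerminal D)
  haveI : PreservesColimitsOfSize.{0, 0} G := adj.leftAdjoint_preservesColimits
  haveI : G.Additive := adj.left_adjoint_additive
  let Z : AddCommGrpCat.{u + 1} := AddCommGrpCat.of (ULift.{u + 1} ℤ)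
  let q : Z ⟶ AddCommGrpCat.of (ULift.{u + 1} (ZMod n)) := AddCommGrpCat.ofHom
    (AddEquiv.ulift.symm.toAddMonoidHom.comp ((Int.castAddHom (ZMod n)).comp AddEquiv.ulift.toAddMonoidHom))
  have w : (n • 𝟙 Z) ≫ q = 0 := by
    refine ConcreteCategory.hom_ext _ _ fun x => ?_
    rw [ConcreteCategory.comp_apply]
    show q (n • x) = 0
    rw [map_nsmul]
    exact ULift.ext _ _ (show n • ((x.down : ℤ) : ZMod n) = 0 by rw [nsmul_eq_mul, ZMod.natCast_self, zero_mul])
  have hex : (ShortComplex.mk (n • 𝟙 Z) q w).Exact := by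
    rw [ShortComplex.ab_exact_iff]
    intro x hx
    have hx' : ((x.down : ℤ) : ZMod n) = 0 := congrArg ULift.down hx
    obtain ⟨k, hk⟩ := (ZMod.intCast_zmod_eq_zero_iff_dvd _ _).1 hx'
    refine ⟨ULift.up k, ULift.ext _ _ ?_⟩
    show n • k = x.down
    rw [hk, nsmul_eq_mul]
  haveI : Epi (ShortComplex.mk (n • 𝟙 Z) q w).g := (AddCommGrpCat.epi_iff_surjective q).2 fun y => by
    obtain ⟨k, hk⟩ := ZMod.intCast_surjective y.down
    exact ⟨ULift.up k, ULift.ext _ _ hk⟩
  let e₀ : cokernel (n • 𝟙 Z) ≅ AddCommGrpCat.of (ULift.{u + 1} (ZMod n)) :=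
    colimit.isoColimitCocone ⟨_, hex.gIsCokernel⟩
  exact ⟨cokernelIsoOfEq (show n • 𝟙 (EtCoh.const D ℤ) = G.map (n • 𝟙 Z) by
    rw [Functor.map_nsmul, CategoryTheory.Functor.map_id]) ≪≫ (PreservesCokernel.iso G (n • 𝟙 Z)).symm ≪≫
    G.mapIso e₀⟩

/-- The main computation. -/
theorem locCoh_mu (h : RegDiv i j) [EtCoh.BCCont j] {n : ℕ} (hn : IsUnit (n : Γ(X, ⊤))) :
    IsZero ((EtDual.locCoh j 0).obj (EtCoh.mu X n)) ∧ IsZero ((EtDual.locCoh j 1).obj (EtCoh.mu X n)) ∧
      Nonempty ((EtDual.locCoh j 2).obj (EtCoh.mu X n) ≅ (EtCoh.push i).obj (EtCoh.const D (ZMod n))) := by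
  haveI := isIso_unit_mu h hn
  obtain ⟨⟨e₁⟩, e₂⟩ := S6658.Aux.main j (EtCoh.mu X n)
  haveI := S5176.preservesFiniteLimits_secSupp j
  refine ⟨((S5176.isZero_secSupp_iff j _).2 inferInstance).of_iso
      ((EtDual.secSupp j).rightDerivedZeroIsoSelf.app _),
    (isZero_cokernel_of_epi (EtDual.unitApp j (EtCoh.mu X n))).of_iso e₁.symm, ?_⟩
  haveI := H18Et.push_preservesFiniteColimits (liftsEtaleUniv_closed i : H18Et.LiftsEtaleUniv i)
    i.isClosedEmbedding.isClosed_range
  obtain ⟨eC⟩ := nonempty_Cl_iso h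
  exact ⟨(e₂ 1 le_rfl).some.symm ≪≫ (nonempty_Rpush_one_mu h hn).some ≪≫ (nonempty_coker_P j hn).some ≪≫
    cokernel.mapIso _ (n • 𝟙 ((EtCoh.push i).obj (EtCoh.const D ℤ))) eC eC (by
      rw [Preadditive.nsmul_comp, Preadditive.comp_nsmul, Category.id_comp, Category.comp_id]) ≪≫
    cokernelIsoOfEq (show n • 𝟙 ((EtCoh.push i).obj (EtCoh.const D ℤ)) = (EtCoh.push i).map (n • 𝟙 (EtCoh.const D ℤ)) by
      rw [Functor.map_nsmul, CategoryTheory.Functor.map_id]) ≪≫
    (PreservesCokernel.iso (EtCoh.push i) (n • 𝟙 (EtCoh.const D ℤ))).symm ≪≫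
    (EtCoh.push i).mapIso (nonempty_coker_const D n).some⟩

end Groth.Agent.H05EGA4.EtDiv
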